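import Mathlib

/-!
# Computing with `6 × 6` matrices over the field with nine elements (helper156)

An entry `a + b i` is coded by `a + 3 b`, `a, b ≤ 2`; a matrix is a list of rows.
`toM η A` is the matrix over a field of characteristic three with `η² = -1`.
-/

set_option autoImplicit false

namespace Cfsg.Agent.H156.SN

open Matrix

universe u

/-- the index set -/
abbrev Ix : Type := Fin 3 ⊕ Fin 3

/-- the number of an index -/
def idx : Ix → ℕ := Sum.elim (fun i => i.val) (fun i => i.val + 3)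

theorem idx_lt (i : Ix) : idx i < 6 := by
  rcases i with i | i
  · exact lt_trans i.2 (by norm_num)
  · have := i.2
    change i.val + 3 < 6
    omega

/-- real part of a code -/
def re (c : ℕ) : ℕ := c % 3

/-- imaginary part of a code -/
def im (c : ℕ) : ℕ := c / 3 % 3

/-- entry of a coded matrix -/
def get (A : List (List ℕ)) (i j : ℕ) : ℕ := (A.getD i []).getD j 0

/-- sum of six values -/
def s6 (f : ℕ → ℕ) : ℕ := f 0 + f 1 + f 2 + f 3 + f 4 + f 5

/-- entry of the product -/
def ent (A B : List (List ℕ)) (i j : ℕ) : ℕ :=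
  (s6 fun k => re (get A i k) * re (get B k j) + 2 * (im (get A i k) * im (get B k j))) % 3 +
    3 * ((s6 fun k => re (get A i k) * im (get B k j) + im (get A i k) * re (get B k j)) % 3)

/-- make a coded matrix -/
def mk (f : ℕ → ℕ → ℕ) : List (List ℕ) := (List.range 6).map fun i => (List.range 6).map fun j => f i j

/-- product of coded matrices -/
def mulc (A B : List (List ℕ)) : List (List ℕ) := mk (ent A B)

/-- transpose of a coded matrix -/
def trc (A : List (List ℕ)) : List (List ℕ) := mk fun i j => get A j i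

theorem get_mk (f : ℕ → ℕ → ℕ) {i j : ℕ} (hi : i < 6) (hj : j < 6) : get (mk f) i j = f i j := by
  unfold get mk
  simp [List.getD_eq_getElem?_getD, hi, hj]

variable {F : Type u} [Field F]

/-- value of a code -/
def ev (η : F) (c : ℕ) : F := (re c : F) + (im c : F) * η

theorem cast_mod (h3 : (3 : F) = 0) (n : ℕ) : ((n % 3 : ℕ) : F) = n := by
  have h : ((n % 3 + 3 * (n / 3) : ℕ) : F) = n := by rw [Nat.mod_add_div]
  rw [← h]
  push_cast
  rw [h3]
  ring

theorem ev_code (h3 : (3 : F) = 0) (η : F) (p q : ℕ) : ev η (p % 3 + 3 * (q % 3)) = p + q * η := by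
  have h1 : re (p % 3 + 3 * (q % 3)) = p % 3 := by unfold re; omega
  have h2 : im (p % 3 + 3 * (q % 3)) = q % 3 := by unfold im; omega
  unfold ev
  rw [h1, h2, cast_mod h3, cast_mod h3]

theorem ev_mul {η : F} (hη : η * η = -1) (h3 : (3 : F) = 0) (a b : ℕ) : ev η a * ev η b =
    ((re a * re b + 2 * (im a * im b) : ℕ) : F) + ((re a * im b + im a * re b : ℕ) : F) * η := by
  unfold ev
  push_cast
  linear_combination ((im a : F) * im b) * hη - ((im a : F) * im b) * h3

/-- the matrix of a code -/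
def toM (η : F) (A : List (List ℕ)) : Matrix Ix Ix F := fun i j => ev η (get A (idx i) (idx j))

theorem toM_mul {η : F} (hη : η * η = -1) (h3 : (3 : F) = 0) {A B C : List (List ℕ)} (h : mulc A B = C) :
    toM η A * toM η B = toM η C := by
  subst h
  ext i j
  rw [Matrix.mul_apply, Fintype.sum_sum_type, Fin.sum_univ_three, Fin.sum_univ_three]
  change ev η (get A (idx i) 0) * ev η (get B 0 (idx j)) + ev η (get A (idx i) 1) * ev η (get B 1 (idx j)) +
    ev η (get A (idx i) 2) * ev η (get B 2 (idx j)) + (ev η (get A (idx i) 3) * ev η (get B 3 (idx j)) +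
    ev η (get A (idx i) 4) * ev η (get B 4 (idx j)) + ev η (get A (idx i) 5) * ev η (get B 5 (idx j))) =
    ev η (get (mulc A B) (idx i) (idx j))
  unfold mulc
  rw [get_mk _ (idx_lt i) (idx_lt j)]
  unfold ent
  rw [ev_code h3]
  simp only [ev_mul hη h3, s6, Nat.cast_add]
  ring

theorem toM_transpose (η : F) (A : List (List ℕ)) : toM η (trc A) = (toM η A)ᵀ := by
  ext i j
  rw [Matrix.transpose_apply]
  unfold toM trc
  rw [get_mk _ (idx_lt i) (idx_lt j)]

/-- the identity -/
def lI : List (List ℕ) := [[1,0,0,0,0,0],[0,1,0,0,0,0],[0,0,1,0,0,0],[0,0,0,1,0,0],[0,0,0,0,1,0],[0,0,0,0,0,1]]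

/-- minus the identity -/
def lN : List (List ℕ) := [[2,0,0,0,0,0],[0,2,0,0,0,0],[0,0,2,0,0,0],[0,0,0,2,0,0],[0,0,0,0,2,0],[0,0,0,0,0,2]]

/-- the form `J = [0 -1; 1 0]` -/
def lJ : List (List ℕ) := [[0,0,0,2,0,0],[0,0,0,0,2,0],[0,0,0,0,0,2],[1,0,0,0,0,0],[0,1,0,0,0,0],[0,0,1,0,0,0]]

theorem toM_lI (η : F) : toM η lI = 1 := by
  ext i j
  rcases i with i | i <;> rcases j with j | j <;> fin_cases i <;> fin_cases j <;>
    simp [toM, lI, get, idx, ev, re, im, Matrix.one_apply]

theorem two_eq (h3 : (3 : F) = 0) : (2 : F) = -1 := by linear_combination h3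

theorem toM_lN (h3 : (3 : F) = 0) (η : F) : toM η lN = -1 := by
  ext i j
  rcases i with i | i <;> rcases j with j | j <;> fin_cases i <;> fin_cases j <;>
    simp [toM, lN, get, idx, ev, re, im, Matrix.one_apply, two_eq h3]

theorem toM_lJ (h3 : (3 : F) = 0) (η : F) : toM η lJ = Matrix.J (Fin 3) F := by
  ext i j
  rcases i with i | i <;> rcases j with j | j <;> fin_cases i <;> fin_cases j <;>
    simp [toM, lJ, get, idx, ev, re, im, Matrix.one_apply, two_eq h3, Matrix.J]

/-- trace code -/
def trac (A : List (List ℕ)) : ℕ :=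
  (s6 fun k => re (get A k k)) % 3 + 3 * ((s6 fun k => im (get A k k)) % 3)

theorem trace_toM (h3 : (3 : F) = 0) (η : F) (A : List (List ℕ)) : (toM η A).trace = ev η (trac A) := by
  unfold Matrix.trace trac
  rw [ev_code h3, Fintype.sum_sum_type, Fin.sum_univ_three, Fin.sum_univ_three]
  change ev η (get A 0 0) + ev η (get A 1 1) + ev η (get A 2 2) + (ev η (get A 3 3) + ev η (get A 4 4) +
    ev η (get A 5 5)) = _
  simp only [ev, s6, Nat.cast_add]
  ring

/-! ### invertible matrices -/

/-- an invertible matrix from a coded matrix and its inverse -/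
def gl {η : F} (hη : η * η = -1) (h3 : (3 : F) = 0) (A B : List (List ℕ)) (h1 : mulc A B = lI) (h2 : mulc B A = lI) :
    GL Ix F :=
  ⟨toM η A, toM η B, by rw [toM_mul hη h3 h1, toM_lI], by rw [toM_mul hη h3 h2, toM_lI]⟩

/-- `g` has code `A` -/
def Is (η : F) (g : GL Ix F) (A : List (List ℕ)) : Prop := (g : Matrix Ix Ix F) = toM η A

theorem Is.mul {η : F} (hη : η * η = -1) (h3 : (3 : F) = 0) {g h : GL Ix F} {A B C : List (List ℕ)}
    (hg : Is η g A) (hh : Is η h B) (e : mulc A B = C) : Is η (g * h) C := by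
  unfold Is at *
  rw [Units.val_mul, hg, hh, toM_mul hη h3 e]

theorem Is.eq {η : F} {g h : GL Ix F} {A : List (List ℕ)} (hg : Is η g A) (hh : Is η h A) : g = h :=
  Units.ext (Eq.trans hg (Eq.symm hh))

theorem Is.one {η : F} : Is η (1 : GL Ix F) lI := by
  unfold Is
  rw [toM_lI, Units.val_one]

theorem Is.eq_one {η : F} {g : GL Ix F} (hg : Is η g lI) : g = 1 := hg.eq Is.one

theorem Is.neg_one {η : F} (h3 : (3 : F) = 0) : Is η (-1 : GL Ix F) lN := by
  unfold Is
  rw [toM_lN h3, Units.val_neg, Units.val_one]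

theorem Is.eq_neg_one {η : F} (h3 : (3 : F) = 0) {g : GL Ix F} (hg : Is η g lN) : g = -1 := hg.eq (Is.neg_one h3)

end Cfsg.Agent.H156.SN
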