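import Cfsg.Agent.H156.SN.Code

/-!
# The group `2.A₇` in `Sp₆(9)`: matrices and their products (helper156, generated)
-/

set_option autoImplicit false

namespace Cfsg.Agent.H156.SN

/-- a matrix of `2.A₇` -/
def x0 : List (List ℕ) := [[2,4,0,0,0,0],[7,0,0,0,0,0],[0,0,0,0,0,8],[0,0,0,0,5,2],[1,0,0,8,2,8],[5,1,5,0,0,2]]
/-- a matrix of `2.A₇` -/
def y0 : List (List ℕ) := [[0,8,0,0,0,0],[5,2,0,0,0,0],[2,8,2,0,0,4],[0,2,7,2,7,0],[0,0,2,4,0,0],[0,0,7,0,0,0]]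
/-- a matrix of `2.A₇` -/
def x1 : List (List ℕ) := [[0,7,2,0,0,0],[4,2,4,2,0,0],[0,0,2,5,2,5],[0,0,0,2,8,0],[0,0,0,5,0,0],[0,0,8,0,0,0]]
/-- a matrix of `2.A₇` -/
def y1 : List (List ℕ) := [[2,5,0,0,1,7],[8,0,0,0,0,1],[0,0,0,0,0,7],[0,0,0,0,4,0],[0,0,0,7,2,0],[0,0,4,2,4,2]]
/-- a matrix of `2.A₇` -/
def x2 : List (List ℕ) := [[0,0,2,0,0,0],[0,0,0,2,0,0],[0,0,0,0,2,0],[0,0,0,0,0,2],[1,0,0,0,0,0],[0,1,0,0,0,0]]
/-- a matrix of `2.A₇` -/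
def y2 : List (List ℕ) := [[0,0,0,0,1,0],[0,0,0,0,0,1],[2,0,0,0,0,0],[0,2,0,0,0,0],[0,0,2,0,0,0],[0,0,0,2,0,0]]
/-- a matrix of `2.A₇` -/
def x3 : List (List ℕ) := [[0,5,2,0,0,0],[8,2,8,2,0,0],[0,0,2,7,2,7],[0,0,0,2,4,0],[0,0,0,7,0,0],[0,0,4,0,0,0]]
/-- a matrix of `2.A₇` -/
def y3 : List (List ℕ) := [[2,7,0,0,1,5],[4,0,0,0,0,1],[0,0,0,0,0,5],[0,0,0,0,8,0],[0,0,0,5,2,0],[0,0,8,2,8,2]]
/-- a matrix of `2.A₇` -/
def x4 : List (List ℕ) := [[2,8,0,0,0,0],[5,0,0,0,0,0],[0,0,0,0,0,4],[0,0,0,0,7,2],[1,0,0,4,2,4],[7,1,7,0,0,2]]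
/-- a matrix of `2.A₇` -/
def y4 : List (List ℕ) := [[0,4,0,0,0,0],[7,2,0,0,0,0],[2,4,2,0,0,8],[0,2,5,2,5,0],[0,0,2,8,0,0],[0,0,5,0,0,0]]
/-- a matrix of `2.A₇` -/
def j0 : List (List ℕ) := [[0,1,5,1,5,0],[0,0,1,8,0,0],[0,0,5,0,0,0],[0,8,0,0,0,0],[5,2,0,0,0,0],[2,8,2,0,0,4]]
/-- a matrix of `2.A₇` -/
def j1 : List (List ℕ) := [[0,0,0,0,8,0],[0,0,0,5,1,0],[0,0,8,1,8,1],[2,5,0,0,1,7],[8,0,0,0,0,1],[0,0,0,0,0,7]]
/-- a matrix of `2.A₇` -/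
def j2 : List (List ℕ) := [[0,1,0,0,0,0],[0,0,1,0,0,0],[0,0,0,1,0,0],[0,0,0,0,1,0],[0,0,0,0,0,1],[2,0,0,0,0,0]]
/-- a matrix of `2.A₇` -/
def j3 : List (List ℕ) := [[0,0,0,0,4,0],[0,0,0,7,1,0],[0,0,4,1,4,1],[2,7,0,0,1,5],[4,0,0,0,0,1],[0,0,0,0,0,5]]
/-- a matrix of `2.A₇` -/
def j4 : List (List ℕ) := [[0,1,7,1,7,0],[0,0,1,4,0,0],[0,0,7,0,0,0],[0,4,0,0,0,0],[7,2,0,0,0,0],[2,4,2,0,0,8]]
/-- a matrix of `2.A₇` -/
def q01 : List (List ℕ) := [[6,1,7,8,0,0],[0,3,5,0,0,0],[0,0,6,0,0,0],[0,0,4,3,0,0],[0,7,8,2,6,0],[4,8,1,5,7,3]]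
/-- a matrix of `2.A₇` -/
def q02 : List (List ℕ) := [[0,0,1,8,0,0],[0,0,5,0,0,0],[0,8,0,0,0,0],[5,2,0,0,0,0],[2,8,2,0,0,4],[0,2,7,2,7,0]]
/-- a matrix of `2.A₇` -/
def q03 : List (List ℕ) := [[3,3,4,8,0,0],[0,6,5,0,0,0],[0,0,3,0,0,0],[0,0,8,6,0,0],[0,5,5,6,3,0],[8,5,6,8,7,6]]
/-- a matrix of `2.A₇` -/
def q04 : List (List ℕ) := [[2,4,0,0,0,0],[5,1,0,0,0,0],[1,8,1,0,0,4],[7,2,5,1,7,2],[2,4,1,8,2,4],[5,1,5,0,0,2]]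
/-- a matrix of `2.A₇` -/
def q10 : List (List ℕ) := [[3,0,0,0,0,4],[1,6,0,0,7,4],[5,5,3,4,4,1],[8,0,0,6,2,7],[0,0,0,0,3,7],[0,0,0,0,0,6]]
/-- a matrix of `2.A₇` -/
def q12 : List (List ℕ) := [[0,0,0,5,1,0],[0,0,8,1,8,1],[2,5,0,0,1,7],[8,0,0,0,0,1],[0,0,0,0,0,7],[0,0,0,0,4,0]]
/-- a matrix of `2.A₇` -/
def q13 : List (List ℕ) := [[1,5,2,7,1,5],[4,2,8,1,4,2],[0,0,2,5,2,5],[0,0,0,2,8,0],[0,0,0,7,1,0],[0,0,4,1,4,1]]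
/-- a matrix of `2.A₇` -/
def q14 : List (List ℕ) := [[6,0,0,0,0,8],[3,3,0,0,5,7],[8,5,6,8,7,6],[8,0,0,3,6,4],[0,0,0,0,6,7],[0,0,0,0,0,3]]
/-- a matrix of `2.A₇` -/
def q20 : List (List ℕ) := [[0,0,0,0,0,4],[0,0,0,0,7,1],[2,0,0,4,1,4],[7,2,7,0,0,1],[2,4,0,0,0,0],[7,0,0,0,0,0]]
/-- a matrix of `2.A₇` -/
def q21 : List (List ℕ) := [[0,0,1,7,1,7],[0,0,0,1,4,0],[0,0,0,7,0,0],[0,0,4,0,0,0],[0,7,2,0,0,0],[4,2,4,2,0,0]]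
/-- a matrix of `2.A₇` -/
def q23 : List (List ℕ) := [[0,0,1,5,1,5],[0,0,0,1,8,0],[0,0,0,5,0,0],[0,0,8,0,0,0],[0,5,2,0,0,0],[8,2,8,2,0,0]]
/-- a matrix of `2.A₇` -/
def q24 : List (List ℕ) := [[0,0,0,0,0,8],[0,0,0,0,5,1],[2,0,0,8,1,8],[5,2,5,0,0,1],[2,8,0,0,0,0],[5,0,0,0,0,0]]
/-- a matrix of `2.A₇` -/
def q30 : List (List ℕ) := [[6,0,0,0,0,4],[6,3,0,0,7,7],[8,7,6,4,7,3],[4,0,0,3,3,4],[0,0,0,0,6,5],[0,0,0,0,0,3]]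
/-- a matrix of `2.A₇` -/
def q31 : List (List ℕ) := [[1,7,2,5,1,7],[8,2,4,1,8,2],[0,0,2,7,2,7],[0,0,0,2,4,0],[0,0,0,5,1,0],[0,0,8,1,8,1]]
/-- a matrix of `2.A₇` -/
def q32 : List (List ℕ) := [[0,0,0,7,1,0],[0,0,4,1,4,1],[2,7,0,0,1,5],[4,0,0,0,0,1],[0,0,0,0,0,5],[0,0,0,0,8,0]]
/-- a matrix of `2.A₇` -/
def q34 : List (List ℕ) := [[3,0,0,0,0,8],[2,6,0,0,5,4],[5,7,3,8,4,2],[4,0,0,6,1,7],[0,0,0,0,3,5],[0,0,0,0,0,6]]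
/-- a matrix of `2.A₇` -/
def q40 : List (List ℕ) := [[2,8,0,0,0,0],[7,1,0,0,0,0],[1,4,1,0,0,8],[5,2,7,1,5,2],[2,8,1,4,2,8],[7,1,7,0,0,2]]
/-- a matrix of `2.A₇` -/
def q41 : List (List ℕ) := [[3,6,4,4,0,0],[0,6,7,0,0,0],[0,0,3,0,0,0],[0,0,4,6,0,0],[0,7,5,3,3,0],[4,5,3,8,5,6]]
/-- a matrix of `2.A₇` -/
def q42 : List (List ℕ) := [[0,0,1,4,0,0],[0,0,7,0,0,0],[0,4,0,0,0,0],[7,2,0,0,0,0],[2,4,2,0,0,8],[0,2,5,2,5,0]]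
/-- a matrix of `2.A₇` -/
def q43 : List (List ℕ) := [[6,2,7,4,0,0],[0,3,7,0,0,0],[0,0,6,0,0,0],[0,0,8,3,0,0],[0,5,8,1,6,0],[8,8,2,5,5,3]]
/-- a matrix of `2.A₇` -/
def uc0 : List (List ℕ) := [[4,5,0,0,2,3],[7,6,0,0,5,3],[0,0,3,8,3,8],[0,0,4,7,6,1],[2,7,3,3,8,1],[6,3,4,1,2,5]]
/-- a matrix of `2.A₇` -/
def uc1 : List (List ℕ) := [[2,3,8,7,0,0],[5,3,5,3,0,0],[3,8,0,0,6,4],[6,1,0,0,8,5],[8,1,1,5,6,6],[2,5,3,6,8,2]]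
/-- a matrix of `2.A₇` -/
def uc2 : List (List ℕ) := [[5,2,7,1,5,2],[5,3,7,6,5,3],[3,8,3,8,0,0],[4,7,6,1,0,0],[4,0,0,3,1,5],[1,0,0,8,2,8]]
/-- a matrix of `2.A₇` -/
def u : List (List ℕ) := [[0,0,7,2,0,0],[0,4,8,2,2,0],[7,5,0,0,2,2],[2,6,0,0,5,4],[0,2,3,8,7,0],[0,0,2,4,0,0]]
/-- a matrix of `2.A₇` -/
def tc1 : List (List ℕ) := [[0,0,2,6,8,5],[0,0,7,3,7,3],[3,4,3,4,0,0],[8,7,3,1,0,0],[3,6,8,2,1,7],[8,1,1,5,6,6]]
/-- a matrix of `2.A₇` -/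
def t : List (List ℕ) := [[0,0,2,6,8,5],[0,0,7,3,7,3],[3,4,6,8,3,4],[1,4,2,8,1,4],[5,2,5,0,0,1],[8,1,6,0,0,7]]
/-- a matrix of `2.A₇` -/
def u2 : List (List ℕ) := [[4,0,0,0,0,1],[2,0,0,0,0,0],[0,2,0,0,0,0],[0,5,2,0,0,0],[8,2,8,2,0,0],[1,5,0,0,2,7]]
/-- a matrix of `2.A₇` -/
def u3 : List (List ℕ) := [[0,0,1,0,0,0],[0,0,5,1,0,0],[0,8,4,1,1,0],[5,8,2,7,8,1],[2,1,5,5,0,0],[0,2,8,0,0,0]]
/-- a matrix of `2.A₇` -/
def u4 : List (List ℕ) := [[7,5,0,0,2,2],[8,0,0,0,0,2],[1,0,0,0,0,0],[7,1,0,0,0,0],[4,2,1,0,0,8],[1,7,4,1,5,4]]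
/-- a matrix of `2.A₇` -/
def u5 : List (List ℕ) := [[0,2,0,0,0,0],[0,0,2,0,0,0],[0,0,7,2,0,0],[0,4,2,4,2,0],[7,1,7,0,0,2],[1,4,0,0,0,0]]
/-- a matrix of `2.A₇` -/
def u6 : List (List ℕ) := [[0,8,4,1,1,0],[5,7,0,0,1,1],[4,0,0,0,0,1],[1,0,0,0,0,7],[3,1,0,0,4,5],[0,6,1,7,8,0]]
/-- a matrix of `2.A₇` -/
def t2p : List (List ℕ) := [[4,0,0,6,3,8],[2,0,0,8,7,3],[8,2,5,5,3,4],[1,5,8,0,0,6],[4,2,1,0,0,8],[2,5,6,1,5,3]]
/-- a matrix of `2.A₇` -/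
def t4p : List (List ℕ) := [[0,0,1,3,4,7],[0,0,5,6,5,6],[6,8,3,4,6,8],[2,8,1,4,2,8],[7,1,7,0,0,2],[4,2,3,0,0,5]]
/-- a matrix of `2.A₇` -/
def t5p : List (List ℕ) := [[8,0,0,3,6,4],[1,0,0,4,5,6],[4,1,7,7,6,8],[2,7,4,0,0,3],[8,1,2,0,0,4],[1,7,3,2,7,6]]
/-- a matrix of `2.A₇` -/
def tu : List (List ℕ) := [[8,1,5,7,3,8],[0,0,1,3,4,7],[0,0,5,6,5,6],[6,8,0,0,3,4],[6,2,0,0,8,7],[8,8,2,5,5,3]]
/-- a matrix of `2.A₇` -/
def wt : List (List ℕ) := [[8,2,1,7,6,3],[1,5,6,6,4,2],[8,0,0,3,2,5],[1,0,0,4,2,4],[0,1,7,1,7,0],[0,7,4,2,3,0]]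
/-- a matrix of `2.A₇` -/
def m51 : List (List ℕ) := [[7,3,7,3,0,0],[0,0,6,8,6,8],[0,0,4,5,6,2],[1,7,7,6,8,8],[5,7,3,8,4,2],[1,3,4,7,0,0]]
/-- a matrix of `2.A₇` -/
def m52 : List (List ℕ) := [[0,3,5,0,0,0],[0,0,6,0,0,0],[0,0,4,3,0,0],[0,7,8,2,6,0],[4,8,1,5,7,3],[3,2,5,4,0,0]]
/-- a matrix of `2.A₇` -/
def m53 : List (List ℕ) := [[3,4,5,3,8,5],[4,8,0,0,6,6],[4,1,0,0,8,2],[1,5,1,5,0,0],[7,7,3,6,0,0],[7,3,4,5,3,8]]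
/-- a matrix of `2.A₇` -/
def m54 : List (List ℕ) := [[6,8,7,6,4,7],[8,4,0,0,3,3],[8,2,0,0,4,1],[2,7,2,7,0,0],[5,5,6,3,0,0],[5,6,8,7,6,4]]
/-- a matrix of `2.A₇` -/
def m55 : List (List ℕ) := [[0,0,1,2,7,7],[0,0,5,8,1,6],[6,8,2,1,7,6],[6,2,7,4,0,0],[8,8,1,2,0,0],[4,2,5,8,2,7]]
/-- a matrix of `2.A₇` -/
def m56 : List (List ℕ) := [[0,0,1,4,0,0],[0,0,5,2,0,0],[0,8,8,1,2,0],[5,5,0,0,1,2],[2,3,0,0,5,8],[0,2,6,8,5,0]]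
/-- a matrix of `2.A₇` -/
def m57 : List (List ℕ) := [[0,0,2,5,2,5],[0,0,7,5,3,3],[3,4,5,3,8,5],[8,7,6,4,7,3],[3,6,4,4,0,0],[8,1,8,1,0,0]]
/-- a matrix of `2.A₇` -/
def m58 : List (List ℕ) := [[0,4,0,0,0,0],[7,2,0,0,0,0],[8,2,2,0,0,8],[2,7,6,2,5,6],[6,3,8,8,0,0],[0,3,5,0,0,0]]
/-- a matrix of `2.A₇` -/
def m59 : List (List ℕ) := [[8,1,6,0,0,7],[1,7,6,3,4,1],[4,0,0,3,1,5],[2,0,0,4,4,2],[8,2,7,8,1,7],[1,5,5,0,0,1]]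
/-- a matrix of `2.A₇` -/
def m60 : List (List ℕ) := [[0,1,5,1,5,0],[0,7,7,3,6,0],[4,1,6,8,1,3],[2,7,6,2,5,6],[4,0,0,3,3,4],[2,0,0,4,1,4]]
/-- a matrix of `2.A₇` -/
def m61 : List (List ℕ) := [[4,1,0,0,8,2],[2,7,1,5,2,7],[8,1,4,2,8,1],[1,7,0,0,2,5],[4,0,0,0,0,2],[2,0,0,0,0,7]]
/-- a matrix of `2.A₇` -/
def m62 : List (List ℕ) := [[6,6,4,2,2,7],[8,2,1,7,6,3],[1,5,6,6,4,2],[3,6,8,2,1,7],[8,1,1,5,6,6],[2,5,3,6,8,2]]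
/-- a matrix of `2.A₇` -/
def m63 : List (List ℕ) := [[8,8,2,5,5,3],[5,0,0,2,3,8],[6,0,0,5,3,5],[8,3,8,0,0,6],[7,6,1,0,0,8],[6,4,8,1,5,7]]
/-- a matrix of `2.A₇` -/
def m64 : List (List ℕ) := [[2,3,4,2,6,4],[5,3,1,7,3,2],[6,4,4,0,0,6],[1,8,1,0,0,4],[5,0,0,1,7,1],[3,0,0,5,7,6]]
/-- a matrix of `2.A₇` -/
def m65 : List (List ℕ) := [[8,1,4,2,8,1],[0,0,1,7,1,7],[0,0,5,7,6,6],[6,8,4,0,0,3],[2,8,2,0,0,4],[7,1,5,2,7,1]]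
/-- a matrix of `2.A₇` -/
def m66 : List (List ℕ) := [[2,7,3,3,8,1],[4,0,0,6,1,7],[0,0,0,0,3,5],[0,0,0,0,8,0],[0,0,0,5,2,0],[0,0,8,5,3,2]]
/-- a matrix of `2.A₇` -/
def m67 : List (List ℕ) := [[0,0,0,0,5,2],[1,0,0,8,2,8],[7,1,5,2,7,1],[1,4,2,8,1,4],[7,0,0,2,5,2],[0,0,0,0,2,8]]
/-- a matrix of `2.A₇` -/
def m68 : List (List ℕ) := [[0,0,8,8,1,2],[1,5,5,0,0,1],[2,8,0,0,0,0],[7,1,0,0,0,0],[7,6,1,0,0,8],[0,0,3,1,5,8]]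
/-- a matrix of `2.A₇` -/
def m69 : List (List ℕ) := [[8,4,0,0,3,3],[8,2,0,0,4,1],[1,5,2,7,1,5],[2,8,1,4,2,8],[0,2,5,2,5,0],[0,7,5,3,3,0]]
/-- a matrix of `2.A₇` -/
def m70 : List (List ℕ) := [[1,5,4,2,5,8],[0,1,1,7,5,0],[0,0,1,8,0,0],[0,0,0,1,0,0],[0,0,0,7,1,0],[0,0,4,4,2,1]]
/-- a matrix of `2.A₇` -/
def m71 : List (List ℕ) := [[0,7,6,7,6,0],[4,3,8,6,4,3],[7,3,5,6,7,3],[6,8,0,0,3,4],[1,1,0,0,4,8],[0,1,1,7,5,0]]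
/-- a matrix of `2.A₇` -/
def m72 : List (List ℕ) := [[2,5,4,0,0,6],[6,7,0,0,0,0],[0,3,0,0,0,0],[0,8,6,0,0,0],[5,4,1,3,0,0],[4,2,7,5,6,4]]
/-- a matrix of `2.A₇` -/
def m73 : List (List ℕ) := [[0,0,5,7,6,6],[6,8,7,6,4,7],[8,4,0,0,3,3],[6,1,0,0,8,5],[8,1,1,5,6,6],[0,0,1,3,4,7]]
/-- a matrix of `2.A₇` -/
def nw : List (List ℕ) := [[2,7,1,5,2,7],[8,1,4,2,8,1],[0,0,1,7,1,7],[0,0,0,1,4,0],[0,0,0,5,2,0],[0,0,8,2,8,2]]
/-- a matrix of `2.A₇` -/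
def us : List (List ℕ) := [[0,0,1,7,1,7],[0,0,5,7,6,6],[6,8,7,6,4,7],[4,5,3,8,5,6],[6,3,8,8,0,0],[4,2,4,2,0,0]]
/-- a matrix of `2.A₇` -/
def v : List (List ℕ) := [[0,0,3,2,5,4],[0,0,0,6,7,0],[0,0,0,0,3,0],[0,0,0,0,8,6],[6,0,0,5,4,1],[7,3,8,4,2,7]]
/-- a matrix of `2.A₇` -/
def z : List (List ℕ) := [[3,5,3,0,0,7],[8,0,0,6,4,6],[1,0,0,8,5,3],[1,1,5,6,6,4],[5,3,6,8,2,1],[6,4,5,0,0,2]]
/-- a matrix of `2.A₇` -/
def z2 : List (List ℕ) := [[0,7,8,2,6,0],[4,8,1,5,7,3],[3,2,5,4,0,0],[0,6,7,0,0,0],[0,0,3,0,0,0],[0,0,8,6,0,0]]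
/-- a matrix of `2.A₇` -/
def z4 : List (List ℕ) := [[6,8,0,0,3,4],[6,2,0,0,8,7],[4,1,2,5,3,6],[2,7,3,3,8,1],[2,6,8,5,0,0],[7,3,7,3,0,0]]

theorem p_x0_x0 : mulc x0 x0 = y0 := by decide +kernel
theorem p_x0_y0 : mulc x0 y0 = lI := by decide +kernel
theorem p_y0_x0 : mulc y0 x0 = lI := by decide +kernel
theorem p_x1_x1 : mulc x1 x1 = y1 := by decide +kernel
theorem p_x1_y1 : mulc x1 y1 = lI := by decide +kernel
theorem p_y1_x1 : mulc y1 x1 = lI := by decide +kernel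
theorem p_x2_x2 : mulc x2 x2 = y2 := by decide +kernel
theorem p_x2_y2 : mulc x2 y2 = lI := by decide +kernel
theorem p_y2_x2 : mulc y2 x2 = lI := by decide +kernel
theorem p_x3_x3 : mulc x3 x3 = y3 := by decide +kernel
theorem p_x3_y3 : mulc x3 y3 = lI := by decide +kernel
theorem p_y3_x3 : mulc y3 x3 = lI := by decide +kernel
theorem p_x4_x4 : mulc x4 x4 = y4 := by decide +kernel
theorem p_x4_y4 : mulc x4 y4 = lI := by decide +kernel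
theorem p_y4_x4 : mulc y4 x4 = lI := by decide +kernel
theorem p_y3_lJ : mulc y3 lJ = j0 := by decide +kernel
theorem p_j0_x0 : mulc j0 x0 = lJ := by decide +kernel
theorem tr0 : trc x0 = y3 := by decide +kernel
theorem p_y4_lJ : mulc y4 lJ = j1 := by decide +kernel
theorem p_j1_x1 : mulc j1 x1 = lJ := by decide +kernel
theorem tr1 : trc x1 = y4 := by decide +kernel
theorem p_y2_lJ : mulc y2 lJ = j2 := by decide +kernel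
theorem p_j2_x2 : mulc j2 x2 = lJ := by decide +kernel
theorem tr2 : trc x2 = y2 := by decide +kernel
theorem p_y0_lJ : mulc y0 lJ = j3 := by decide +kernel
theorem p_j3_x3 : mulc j3 x3 = lJ := by decide +kernel
theorem tr3 : trc x3 = y0 := by decide +kernel
theorem p_y1_lJ : mulc y1 lJ = j4 := by decide +kernel
theorem p_j4_x4 : mulc j4 x4 = lJ := by decide +kernel
theorem tr4 : trc x4 = y1 := by decide +kernel
theorem p_x0_x1 : mulc x0 x1 = q01 := by decide +kernel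
theorem p_q01_q01 : mulc q01 q01 = lN := by decide +kernel
theorem p_x0_x2 : mulc x0 x2 = q02 := by decide +kernel
theorem p_q02_q02 : mulc q02 q02 = lN := by decide +kernel
theorem p_x0_x3 : mulc x0 x3 = q03 := by decide +kernel
theorem p_q03_q03 : mulc q03 q03 = lN := by decide +kernel
theorem p_x0_x4 : mulc x0 x4 = q04 := by decide +kernel
theorem p_q04_q04 : mulc q04 q04 = lN := by decide +kernel
theorem p_x1_x0 : mulc x1 x0 = q10 := by decide +kernel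
theorem p_q10_q10 : mulc q10 q10 = lN := by decide +kernel
theorem p_x1_x2 : mulc x1 x2 = q12 := by decide +kernel
theorem p_q12_q12 : mulc q12 q12 = lN := by decide +kernel
theorem p_x1_x3 : mulc x1 x3 = q13 := by decide +kernel
theorem p_q13_q13 : mulc q13 q13 = lN := by decide +kernel
theorem p_x1_x4 : mulc x1 x4 = q14 := by decide +kernel
theorem p_q14_q14 : mulc q14 q14 = lN := by decide +kernel
theorem p_x2_x0 : mulc x2 x0 = q20 := by decide +kernel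
theorem p_q20_q20 : mulc q20 q20 = lN := by decide +kernel
theorem p_x2_x1 : mulc x2 x1 = q21 := by decide +kernel
theorem p_q21_q21 : mulc q21 q21 = lN := by decide +kernel
theorem p_x2_x3 : mulc x2 x3 = q23 := by decide +kernel
theorem p_q23_q23 : mulc q23 q23 = lN := by decide +kernel
theorem p_x2_x4 : mulc x2 x4 = q24 := by decide +kernel
theorem p_q24_q24 : mulc q24 q24 = lN := by decide +kernel
theorem p_x3_x0 : mulc x3 x0 = q30 := by decide +kernel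
theorem p_q30_q30 : mulc q30 q30 = lN := by decide +kernel
theorem p_x3_x1 : mulc x3 x1 = q31 := by decide +kernel
theorem p_q31_q31 : mulc q31 q31 = lN := by decide +kernel
theorem p_x3_x2 : mulc x3 x2 = q32 := by decide +kernel
theorem p_q32_q32 : mulc q32 q32 = lN := by decide +kernel
theorem p_x3_x4 : mulc x3 x4 = q34 := by decide +kernel
theorem p_q34_q34 : mulc q34 q34 = lN := by decide +kernel
theorem p_x4_x0 : mulc x4 x0 = q40 := by decide +kernel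
theorem p_q40_q40 : mulc q40 q40 = lN := by decide +kernel
theorem p_x4_x1 : mulc x4 x1 = q41 := by decide +kernel
theorem p_q41_q41 : mulc q41 q41 = lN := by decide +kernel
theorem p_x4_x2 : mulc x4 x2 = q42 := by decide +kernel
theorem p_q42_q42 : mulc q42 q42 = lN := by decide +kernel
theorem p_x4_x3 : mulc x4 x3 = q43 := by decide +kernel
theorem p_q43_q43 : mulc q43 q43 = lN := by decide +kernel
theorem p_x4_y3 : mulc x4 y3 = uc0 := by decide +kernel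
theorem p_uc0_x2 : mulc uc0 x2 = uc1 := by decide +kernel
theorem p_uc1_x1 : mulc uc1 x1 = uc2 := by decide +kernel
theorem p_uc2_x0 : mulc uc2 x0 = u := by decide +kernel
theorem p_q02_x1 : mulc q02 x1 = tc1 := by decide +kernel
theorem p_tc1_x3 : mulc tc1 x3 = t := by decide +kernel
theorem p_u_u : mulc u u = u2 := by decide +kernel
theorem p_u2_u : mulc u2 u = u3 := by decide +kernel
theorem p_u3_u : mulc u3 u = u4 := by decide +kernel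
theorem p_u4_u : mulc u4 u = u5 := by decide +kernel
theorem p_u5_u : mulc u5 u = u6 := by decide +kernel
theorem p_u6_u : mulc u6 u = lI := by decide +kernel
theorem p_t_t : mulc t t = t2p := by decide +kernel
theorem p_t2p_t : mulc t2p t = lN := by decide +kernel
theorem p_lN_t : mulc lN t = t4p := by decide +kernel
theorem p_t4p_t : mulc t4p t = t5p := by decide +kernel
theorem p_t5p_t : mulc t5p t = lI := by decide +kernel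
theorem p_t_u : mulc t u = tu := by decide +kernel
theorem p_u2_t : mulc u2 t = tu := by decide +kernel
theorem p_q13_t : mulc q13 t = wt := by decide +kernel
theorem p_t5p_q13 : mulc t5p q13 = wt := by decide +kernel
theorem p_q13_u : mulc q13 u = m51 := by decide +kernel
theorem p_m51_q13 : mulc m51 q13 = m52 := by decide +kernel
theorem p_u6_q13 : mulc u6 q13 = m53 := by decide +kernel
theorem p_m53_lN : mulc m53 lN = m54 := by decide +kernel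
theorem p_m54_u6 : mulc m54 u6 = m52 := by decide +kernel
theorem p_q13_u2 : mulc q13 u2 = m55 := by decide +kernel
theorem p_m55_q13 : mulc m55 q13 = m56 := by decide +kernel
theorem p_u3_q13 : mulc u3 q13 = m57 := by decide +kernel
theorem p_m57_t5p : mulc m57 t5p = m58 := by decide +kernel
theorem p_m58_u3 : mulc m58 u3 = m56 := by decide +kernel
theorem p_q13_u3 : mulc q13 u3 = m59 := by decide +kernel
theorem p_m59_q13 : mulc m59 q13 = m60 := by decide +kernel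
theorem p_u2_q13 : mulc u2 q13 = m61 := by decide +kernel
theorem p_m61_t4p : mulc m61 t4p = m62 := by decide +kernel
theorem p_m62_u2 : mulc m62 u2 = m60 := by decide +kernel
theorem p_q13_u4 : mulc q13 u4 = m63 := by decide +kernel
theorem p_m63_q13 : mulc m63 q13 = m64 := by decide +kernel
theorem p_u5_q13 : mulc u5 q13 = m65 := by decide +kernel
theorem p_m65_t : mulc m65 t = m66 := by decide +kernel
theorem p_m66_u5 : mulc m66 u5 = m64 := by decide +kernel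
theorem p_q13_u5 : mulc q13 u5 = m67 := by decide +kernel
theorem p_m67_q13 : mulc m67 q13 = m68 := by decide +kernel
theorem p_u4_q13 : mulc u4 q13 = m69 := by decide +kernel
theorem p_m69_t2p : mulc m69 t2p = m70 := by decide +kernel
theorem p_m70_u4 : mulc m70 u4 = m68 := by decide +kernel
theorem p_q13_u6 : mulc q13 u6 = m71 := by decide +kernel
theorem p_m71_q13 : mulc m71 q13 = m72 := by decide +kernel
theorem p_u_q13 : mulc u q13 = m73 := by decide +kernel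
theorem p_m73_lI : mulc m73 lI = m73 := by decide +kernel
theorem p_m73_u : mulc m73 u = m72 := by decide +kernel
theorem p_lN_q13 : mulc lN q13 = nw := by decide +kernel
theorem p_u3_nw : mulc u3 nw = us := by decide +kernel
theorem p_q01_x2 : mulc q01 x2 = v := by decide +kernel
theorem p_v_v : mulc v v = z := by decide +kernel
theorem p_z_z : mulc z z = z2 := by decide +kernel
theorem p_z2_z2 : mulc z2 z2 = z4 := by decide +kernel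
theorem p_z4_z : mulc z4 z = lI := by decide +kernel

end Cfsg.Agent.H156.SN
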