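import Cfsg.Agent.H156.SN.Data
import Cfsg.Agent.Lib.SL2Hom
import Cfsg.Agent.CharactersDeep.Carmichael
import Cfsg.Agent.H914.SixBase

/-!
# The group `2.A₇ < Sp₆(9)` and its subgroup `SL₂(7)`: relations (helper156, generated)
-/

set_option autoImplicit false
set_option linter.unusedSectionVars false

namespace Cfsg.Agent.H156.SN

open Matrix Cfsg

universe u

/-- a field of characteristic three with a square root of `-1` -/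
structure Env (F : Type u) [Field F] where
  η : F
  hη : η * η = -1
  h3 : (3 : F) = 0

theorem mem_spGL_of {F : Type u} [Field F] {g : GL Ix F}
    (h : (g : Matrix Ix Ix F)ᵀ * Matrix.J (Fin 3) F * (g : Matrix Ix Ix F) = Matrix.J (Fin 3) F) : g ∈ spGL 3 F := by
  rw [H931.mem_spGL_iff]
  intro a b
  unfold sympForm
  rw [Matrix.dotProduct_mulVec, Matrix.vecMul_mulVec, ← Matrix.dotProduct_mulVec, Matrix.mulVec_mulVec, h]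

namespace Env

variable {F : Type u} [Field F] (E : Env F)

/-- generators of `2.A₇` -/
def X : ℕ → GL Ix F
  | 0 => gl E.hη E.h3 x0 y0 p_x0_y0 p_y0_x0
  | 1 => gl E.hη E.h3 x1 y1 p_x1_y1 p_y1_x1
  | 2 => gl E.hη E.h3 x2 y2 p_x2_y2 p_y2_x2
  | 3 => gl E.hη E.h3 x3 y3 p_x3_y3 p_y3_x3
  | _ => gl E.hη E.h3 x4 y4 p_x4_y4 p_y4_x4

/-- `g` has code `A` -/
def Is (g : GL Ix F) (A : List (List ℕ)) : Prop := (g : Matrix Ix Ix F) = toM E.η A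

variable {E}

theorem Is.mul {g h : GL Ix F} {A B C : List (List ℕ)} (hg : E.Is g A) (hh : E.Is h B) (e : mulc A B = C) :
    E.Is (g * h) C := SN.Is.mul E.hη E.h3 hg hh e

theorem Is.eq {g h : GL Ix F} {A : List (List ℕ)} (hg : E.Is g A) (hh : E.Is h A) : g = h := SN.Is.eq hg hh

theorem Is.eq_one {g : GL Ix F} (hg : E.Is g lI) : g = 1 := SN.Is.eq_one hg

theorem Is.eq_neg_one {g : GL Ix F} (hg : E.Is g lN) : g = -1 := SN.Is.eq_neg_one E.h3 hg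

variable (E)

theorem hx0 : E.Is (E.X 0) x0 := rfl

theorem hy0 : E.Is (E.X 0)⁻¹ y0 := rfl

theorem X0_cube : E.X 0 ^ 3 = 1 := by
  rw [pow_succ, pow_two]
  exact (((hx0 E).mul (hx0 E) p_x0_x0).mul (hx0 E) p_y0_x0).eq_one

theorem hx1 : E.Is (E.X 1) x1 := rfl

theorem hy1 : E.Is (E.X 1)⁻¹ y1 := rfl

theorem X1_cube : E.X 1 ^ 3 = 1 := by
  rw [pow_succ, pow_two]
  exact (((hx1 E).mul (hx1 E) p_x1_x1).mul (hx1 E) p_y1_x1).eq_one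

theorem hx2 : E.Is (E.X 2) x2 := rfl

theorem hy2 : E.Is (E.X 2)⁻¹ y2 := rfl

theorem X2_cube : E.X 2 ^ 3 = 1 := by
  rw [pow_succ, pow_two]
  exact (((hx2 E).mul (hx2 E) p_x2_x2).mul (hx2 E) p_y2_x2).eq_one

theorem hx3 : E.Is (E.X 3) x3 := rfl

theorem hy3 : E.Is (E.X 3)⁻¹ y3 := rfl

theorem X3_cube : E.X 3 ^ 3 = 1 := by
  rw [pow_succ, pow_two]
  exact (((hx3 E).mul (hx3 E) p_x3_x3).mul (hx3 E) p_y3_x3).eq_one

theorem hx4 : E.Is (E.X 4) x4 := rfl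

theorem hy4 : E.Is (E.X 4)⁻¹ y4 := rfl

theorem X4_cube : E.X 4 ^ 3 = 1 := by
  rw [pow_succ, pow_two]
  exact (((hx4 E).mul (hx4 E) p_x4_x4).mul (hx4 E) p_y4_x4).eq_one

theorem X0_sp : E.X 0 ∈ spGL 3 F := by
  apply mem_spGL_of
  rw [show ((E.X 0 : GL Ix F) : Matrix Ix Ix F) = toM E.η x0 from rfl, ← toM_transpose, tr0, ← toM_lJ E.h3 E.η,
    toM_mul E.hη E.h3 p_y3_lJ, toM_mul E.hη E.h3 p_j0_x0]

theorem X1_sp : E.X 1 ∈ spGL 3 F := by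
  apply mem_spGL_of
  rw [show ((E.X 1 : GL Ix F) : Matrix Ix Ix F) = toM E.η x1 from rfl, ← toM_transpose, tr1, ← toM_lJ E.h3 E.η,
    toM_mul E.hη E.h3 p_y4_lJ, toM_mul E.hη E.h3 p_j1_x1]

theorem X2_sp : E.X 2 ∈ spGL 3 F := by
  apply mem_spGL_of
  rw [show ((E.X 2 : GL Ix F) : Matrix Ix Ix F) = toM E.η x2 from rfl, ← toM_transpose, tr2, ← toM_lJ E.h3 E.η,
    toM_mul E.hη E.h3 p_y2_lJ, toM_mul E.hη E.h3 p_j2_x2]

theorem X3_sp : E.X 3 ∈ spGL 3 F := by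
  apply mem_spGL_of
  rw [show ((E.X 3 : GL Ix F) : Matrix Ix Ix F) = toM E.η x3 from rfl, ← toM_transpose, tr3, ← toM_lJ E.h3 E.η,
    toM_mul E.hη E.h3 p_y0_lJ, toM_mul E.hη E.h3 p_j3_x3]

theorem X4_sp : E.X 4 ∈ spGL 3 F := by
  apply mem_spGL_of
  rw [show ((E.X 4 : GL Ix F) : Matrix Ix Ix F) = toM E.η x4 from rfl, ← toM_transpose, tr4, ← toM_lJ E.h3 E.η,
    toM_mul E.hη E.h3 p_y1_lJ, toM_mul E.hη E.h3 p_j4_x4]

theorem X0_X1 : (E.X 0 * E.X 1) ^ 2 = -1 := by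
  rw [pow_two]
  exact (((hx0 E).mul (hx1 E) p_x0_x1).mul ((hx0 E).mul (hx1 E) p_x0_x1) p_q01_q01).eq_neg_one

theorem X0_X2 : (E.X 0 * E.X 2) ^ 2 = -1 := by
  rw [pow_two]
  exact (((hx0 E).mul (hx2 E) p_x0_x2).mul ((hx0 E).mul (hx2 E) p_x0_x2) p_q02_q02).eq_neg_one

theorem X0_X3 : (E.X 0 * E.X 3) ^ 2 = -1 := by
  rw [pow_two]
  exact (((hx0 E).mul (hx3 E) p_x0_x3).mul ((hx0 E).mul (hx3 E) p_x0_x3) p_q03_q03).eq_neg_one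

theorem X0_X4 : (E.X 0 * E.X 4) ^ 2 = -1 := by
  rw [pow_two]
  exact (((hx0 E).mul (hx4 E) p_x0_x4).mul ((hx0 E).mul (hx4 E) p_x0_x4) p_q04_q04).eq_neg_one

theorem X1_X0 : (E.X 1 * E.X 0) ^ 2 = -1 := by
  rw [pow_two]
  exact (((hx1 E).mul (hx0 E) p_x1_x0).mul ((hx1 E).mul (hx0 E) p_x1_x0) p_q10_q10).eq_neg_one

theorem X1_X2 : (E.X 1 * E.X 2) ^ 2 = -1 := by
  rw [pow_two]
  exact (((hx1 E).mul (hx2 E) p_x1_x2).mul ((hx1 E).mul (hx2 E) p_x1_x2) p_q12_q12).eq_neg_one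

theorem X1_X3 : (E.X 1 * E.X 3) ^ 2 = -1 := by
  rw [pow_two]
  exact (((hx1 E).mul (hx3 E) p_x1_x3).mul ((hx1 E).mul (hx3 E) p_x1_x3) p_q13_q13).eq_neg_one

theorem X1_X4 : (E.X 1 * E.X 4) ^ 2 = -1 := by
  rw [pow_two]
  exact (((hx1 E).mul (hx4 E) p_x1_x4).mul ((hx1 E).mul (hx4 E) p_x1_x4) p_q14_q14).eq_neg_one

theorem X2_X0 : (E.X 2 * E.X 0) ^ 2 = -1 := by
  rw [pow_two]
  exact (((hx2 E).mul (hx0 E) p_x2_x0).mul ((hx2 E).mul (hx0 E) p_x2_x0) p_q20_q20).eq_neg_one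

theorem X2_X1 : (E.X 2 * E.X 1) ^ 2 = -1 := by
  rw [pow_two]
  exact (((hx2 E).mul (hx1 E) p_x2_x1).mul ((hx2 E).mul (hx1 E) p_x2_x1) p_q21_q21).eq_neg_one

theorem X2_X3 : (E.X 2 * E.X 3) ^ 2 = -1 := by
  rw [pow_two]
  exact (((hx2 E).mul (hx3 E) p_x2_x3).mul ((hx2 E).mul (hx3 E) p_x2_x3) p_q23_q23).eq_neg_one

theorem X2_X4 : (E.X 2 * E.X 4) ^ 2 = -1 := by
  rw [pow_two]
  exact (((hx2 E).mul (hx4 E) p_x2_x4).mul ((hx2 E).mul (hx4 E) p_x2_x4) p_q24_q24).eq_neg_one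

theorem X3_X0 : (E.X 3 * E.X 0) ^ 2 = -1 := by
  rw [pow_two]
  exact (((hx3 E).mul (hx0 E) p_x3_x0).mul ((hx3 E).mul (hx0 E) p_x3_x0) p_q30_q30).eq_neg_one

theorem X3_X1 : (E.X 3 * E.X 1) ^ 2 = -1 := by
  rw [pow_two]
  exact (((hx3 E).mul (hx1 E) p_x3_x1).mul ((hx3 E).mul (hx1 E) p_x3_x1) p_q31_q31).eq_neg_one

theorem X3_X2 : (E.X 3 * E.X 2) ^ 2 = -1 := by
  rw [pow_two]
  exact (((hx3 E).mul (hx2 E) p_x3_x2).mul ((hx3 E).mul (hx2 E) p_x3_x2) p_q32_q32).eq_neg_one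

theorem X3_X4 : (E.X 3 * E.X 4) ^ 2 = -1 := by
  rw [pow_two]
  exact (((hx3 E).mul (hx4 E) p_x3_x4).mul ((hx3 E).mul (hx4 E) p_x3_x4) p_q34_q34).eq_neg_one

theorem X4_X0 : (E.X 4 * E.X 0) ^ 2 = -1 := by
  rw [pow_two]
  exact (((hx4 E).mul (hx0 E) p_x4_x0).mul ((hx4 E).mul (hx0 E) p_x4_x0) p_q40_q40).eq_neg_one

theorem X4_X1 : (E.X 4 * E.X 1) ^ 2 = -1 := by
  rw [pow_two]
  exact (((hx4 E).mul (hx1 E) p_x4_x1).mul ((hx4 E).mul (hx1 E) p_x4_x1) p_q41_q41).eq_neg_one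

theorem X4_X2 : (E.X 4 * E.X 2) ^ 2 = -1 := by
  rw [pow_two]
  exact (((hx4 E).mul (hx2 E) p_x4_x2).mul ((hx4 E).mul (hx2 E) p_x4_x2) p_q42_q42).eq_neg_one

theorem X4_X3 : (E.X 4 * E.X 3) ^ 2 = -1 := by
  rw [pow_two]
  exact (((hx4 E).mul (hx3 E) p_x4_x3).mul ((hx4 E).mul (hx3 E) p_x4_x3) p_q43_q43).eq_neg_one

/-- the element `U` of `SL₂(7)` -/
def U : GL Ix F := E.X 4 * (E.X 3)⁻¹ * E.X 2 * E.X 1 * E.X 0

theorem hu : E.Is E.U u := (((((hx4 E).mul (hy3 E) p_x4_y3).mul (hx2 E) p_uc0_x2).mul (hx1 E) p_uc1_x1).mul (hx0 E) p_uc2_x0)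

/-- the element `T` of `SL₂(7)` -/
def T : GL Ix F := E.X 0 * E.X 2 * E.X 1 * E.X 3

theorem ht : E.Is E.T t := ((((hx0 E).mul (hx2 E) p_x0_x2).mul (hx1 E) p_q02_x1).mul (hx3 E) p_tc1_x3)

/-- the element `W` of `SL₂(7)` -/
def W : GL Ix F := E.X 1 * E.X 3

theorem hw : E.Is E.W q13 := ((hx1 E).mul (hx3 E) p_x1_x3)

theorem hone : E.Is 1 lI := SN.Is.one

theorem u1 : E.Is (E.U ^ 1) u := by rw [pow_one]; exact E.hu

theorem u2 : E.Is (E.U ^ 2) u2 := by rw [pow_succ]; exact E.u1.mul E.hu p_u_u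

theorem u3 : E.Is (E.U ^ 3) u3 := by rw [pow_succ]; exact E.u2.mul E.hu p_u2_u

theorem u4 : E.Is (E.U ^ 4) u4 := by rw [pow_succ]; exact E.u3.mul E.hu p_u3_u

theorem u5 : E.Is (E.U ^ 5) u5 := by rw [pow_succ]; exact E.u4.mul E.hu p_u4_u

theorem u6 : E.Is (E.U ^ 6) u6 := by rw [pow_succ]; exact E.u5.mul E.hu p_u5_u

theorem u7 : E.Is (E.U ^ 7) lI := by rw [pow_succ]; exact E.u6.mul E.hu p_u6_u

theorem t1 : E.Is (E.T ^ 1) t := by rw [pow_one]; exact E.ht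

theorem t2 : E.Is (E.T ^ 2) t2p := by rw [pow_succ]; exact E.t1.mul E.ht p_t_t

theorem t3 : E.Is (E.T ^ 3) lN := by rw [pow_succ]; exact E.t2.mul E.ht p_t2p_t

theorem t4 : E.Is (E.T ^ 4) t4p := by rw [pow_succ]; exact E.t3.mul E.ht p_lN_t

theorem t5 : E.Is (E.T ^ 5) t5p := by rw [pow_succ]; exact E.t4.mul E.ht p_t4p_t

theorem t6 : E.Is (E.T ^ 6) lI := by rw [pow_succ]; exact E.t5.mul E.ht p_t5p_t

theorem u0 : E.Is (E.U ^ 0) lI := by rw [pow_zero]; exact E.hone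

theorem t0 : E.Is (E.T ^ 0) lI := by rw [pow_zero]; exact E.hone

theorem U7 : E.U ^ 7 = 1 := E.u7.eq_one

theorem T6 : E.T ^ 6 = 1 := E.t6.eq_one

theorem T3 : E.T ^ 3 = -1 := E.t3.eq_neg_one

theorem TU : E.T * E.U = E.U ^ 2 * E.T := (E.ht.mul E.hu p_t_u).eq (E.u2.mul E.ht p_u2_t)

theorem WT : E.W * E.T = E.T ^ 5 * E.W := (E.hw.mul E.ht p_q13_t).eq (E.t5.mul E.hw p_t5p_q13)

theorem WW : E.W * E.W = -1 := (E.hw.mul E.hw p_q13_q13).eq_neg_one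

theorem rel1 : E.W * E.U ^ 1 * E.W = E.U ^ 6 * E.W * E.T ^ 3 * E.U ^ 6 :=
  ((E.hw.mul E.u1 p_q13_u).mul E.hw p_m51_q13).eq (((E.u6.mul E.hw p_u6_q13).mul E.t3 p_m53_lN).mul E.u6 p_m54_u6)

theorem rel2 : E.W * E.U ^ 2 * E.W = E.U ^ 3 * E.W * E.T ^ 5 * E.U ^ 3 :=
  ((E.hw.mul E.u2 p_q13_u2).mul E.hw p_m55_q13).eq (((E.u3.mul E.hw p_u3_q13).mul E.t5 p_m57_t5p).mul E.u3 p_m58_u3)

theorem rel3 : E.W * E.U ^ 3 * E.W = E.U ^ 2 * E.W * E.T ^ 4 * E.U ^ 2 :=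
  ((E.hw.mul E.u3 p_q13_u3).mul E.hw p_m59_q13).eq (((E.u2.mul E.hw p_u2_q13).mul E.t4 p_m61_t4p).mul E.u2 p_m62_u2)

theorem rel4 : E.W * E.U ^ 4 * E.W = E.U ^ 5 * E.W * E.T ^ 1 * E.U ^ 5 :=
  ((E.hw.mul E.u4 p_q13_u4).mul E.hw p_m63_q13).eq (((E.u5.mul E.hw p_u5_q13).mul E.t1 p_m65_t).mul E.u5 p_m66_u5)

theorem rel5 : E.W * E.U ^ 5 * E.W = E.U ^ 4 * E.W * E.T ^ 2 * E.U ^ 4 :=
  ((E.hw.mul E.u5 p_q13_u5).mul E.hw p_m67_q13).eq (((E.u4.mul E.hw p_u4_q13).mul E.t2 p_m69_t2p).mul E.u4 p_m70_u4)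

theorem rel6 : E.W * E.U ^ 6 * E.W = E.U ^ 1 * E.W * E.T ^ 0 * E.U ^ 1 :=
  ((E.hw.mul E.u6 p_q13_u6).mul E.hw p_m71_q13).eq (((E.u1.mul E.hw p_u_q13).mul E.t0 p_m73_lI).mul E.u1 p_m73_u)

theorem hneg : E.Is (-1 : GL Ix F) lN := SN.Is.neg_one E.h3

theorem hs : E.Is (E.U ^ 3 * (-1 * E.W)) us := E.u3.mul (E.hneg.mul E.hw p_lN_q13) p_u3_nw

theorem tr_U : ((E.U : GL Ix F) : Matrix Ix Ix F).trace = -1 := by
  rw [show ((E.U : GL Ix F) : Matrix Ix Ix F) = toM E.η u from E.hu, trace_toM E.h3, show trac u = 2 from by decide +kernel]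
  simp [ev, re, im, two_eq E.h3]

theorem tr_s : ((E.U ^ 3 * (-1 * E.W) : GL Ix F) : Matrix Ix Ix F).trace = E.η := by
  rw [show ((E.U ^ 3 * (-1 * E.W) : GL Ix F) : Matrix Ix Ix F) = toM E.η us from E.hs, trace_toM E.h3,
    show trac us = 3 from by decide +kernel]
  simp [ev, re, im]

/-- an element of order five -/
def Z : GL Ix F := (E.X 0 * E.X 1 * E.X 2) * (E.X 0 * E.X 1 * E.X 2)

theorem hv : E.Is (E.X 0 * E.X 1 * E.X 2) v := (E.hx0.mul E.hx1 p_x0_x1).mul E.hx2 p_q01_x2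

theorem hz : E.Is E.Z z := E.hv.mul E.hv p_v_v

theorem Z5 : E.Z ^ 5 = 1 := by
  have h : E.Z ^ 5 = (E.Z * E.Z) * (E.Z * E.Z) * E.Z := by
    simp only [pow_succ, pow_zero, one_mul, mul_assoc]
  rw [h]
  exact (((E.hz.mul E.hz p_z_z).mul (E.hz.mul E.hz p_z_z) p_z2_z2).mul E.hz p_z4_z).eq_one

theorem tr_Z : ((E.Z : GL Ix F) : Matrix Ix Ix F).trace = 1 := by
  rw [show ((E.Z : GL Ix F) : Matrix Ix Ix F) = toM E.η z from E.hz, trace_toM E.h3, show trac z = 1 from by decide +kernel]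
  simp [ev, re, im]

theorem Z_ne_one : E.Z ≠ 1 := by
  intro h
  have h1 := E.tr_Z
  rw [h, Units.val_one, Matrix.trace_one] at h1
  have h2 : ((Fintype.card Ix : ℕ) : F) = 0 := by
    have h3 : Fintype.card Ix = 6 := by simp [Ix]
    rw [h3]
    push_cast
    linear_combination 2 * E.h3
  rw [h2] at h1
  exact zero_ne_one h1

end Env

end Cfsg.Agent.H156.SN
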