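import Cfsg.Agent.H156.SN.Grp

/-!
# `SL₂(7) → 2.A₇ < Sp₆(9)` (helper156)

* `Env.ρ` : the homomorphism from `SL₂(7)`;
* `Env.L` : the group `2.A₇`; `ρ_mem`, `L_le` (in `Sp₆`), `card_quot` (Carmichael bound for `L` modulo scalars), `Z_mem`.
-/

set_option autoImplicit false
set_option linter.unusedSectionVars false

namespace Cfsg.Agent.H156.SN

open Matrix Cfsg

universe u

theorem fact7 : Fact (Nat.Prime 7) := ⟨by norm_num⟩

attribute [local instance] fact7

/-- discrete logarithm to the base `3` modulo `7` -/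
def dl (a : ZMod 7) : ℕ := [0, 0, 2, 1, 4, 5, 3].getD a.val 0

theorem inv7 (a : ZMod 7) : a⁻¹ = a ^ 5 := by
  by_cases h : a = 0
  · subst h
    rw [_root_.inv_zero]
    decide
  · symm
    apply eq_inv_of_mul_eq_one_left
    have : ∀ a : ZMod 7, a ≠ 0 → a ^ 5 * a = 1 := by decide
    exact this a h

section pw

variable {G : Type*} [Group G]

theorem pow_mod_of {g : G} {n : ℕ} (h : g ^ n = 1) (k : ℕ) : g ^ (k % n) = g ^ k := by
  conv_rhs => rw [← Nat.mod_add_div k n]
  rw [pow_add, pow_mul, h, one_pow, mul_one]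

theorem pow_congr_of {g : G} {n : ℕ} (h : g ^ n = 1) {k l : ℕ} (hkl : k % n = l % n) : g ^ k = g ^ l := by
  rw [← pow_mod_of h k, hkl, pow_mod_of h]

theorem semi_pow {t u : G} (h : t * u = u ^ 2 * t) (m k : ℕ) : t ^ m * u ^ k = u ^ (2 ^ m * k) * t ^ m := by
  have h1 : ∀ m : ℕ, SemiconjBy (t ^ m) u (u ^ 2 ^ m) := by
    intro m
    induction m with
    | zero => rw [pow_zero, pow_zero, pow_one]; exact SemiconjBy.one_left _
    | succ m ih =>
      have h2 : SemiconjBy t u (u ^ 2) := h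
      have h3 := h2.pow_right (2 ^ m)
      rw [pow_succ' t, pow_succ' 2, pow_mul]
      exact h3.mul_left ih
  have h4 := (h1 m).pow_right k
  rw [← pow_mul] at h4
  exact h4

theorem semi_pow' {w t : G} (h : w * t = t ^ 5 * w) (k : ℕ) : w * t ^ k = t ^ (5 * k) * w := by
  have h2 : SemiconjBy w t (t ^ 5) := h
  have h4 := h2.pow_right k
  rw [← pow_mul] at h4
  exact h4

end pw

namespace Env

variable {F : Type u} [Field F] (E : Env F)

theorem rel : Lib.SL2Hom.Rel (K := ZMod 7) (fun t => E.U ^ t.val) (fun a => E.T ^ dl a) E.W where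
  add s t := by
    change E.U ^ (s + t).val = E.U ^ s.val * E.U ^ t.val
    rw [← pow_add, ZMod.val_add]
    exact pow_mod_of E.U7 _
  mul a b ha hb := by
    change E.T ^ dl (a * b) = E.T ^ dl a * E.T ^ dl b
    rw [← pow_add]
    apply pow_congr_of E.T6
    have : ∀ a b : ZMod 7, a ≠ 0 → b ≠ 0 → dl (a * b) % 6 = (dl a + dl b) % 6 := by decide
    exact this a b ha hb
  hx a t ha := by
    change E.T ^ dl a * E.U ^ t.val = E.U ^ (a ^ 2 * t).val * E.T ^ dl a
    rw [semi_pow E.TU]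
    congr 1
    apply pow_congr_of E.U7
    have : ∀ a t : ZMod 7, a ≠ 0 → (2 ^ dl a * t.val) % 7 = (a ^ 2 * t).val % 7 := by decide
    exact this a t ha
  wh a ha := by
    change E.W * E.T ^ dl a = E.T ^ dl a⁻¹ * E.W
    rw [semi_pow' E.WT]
    congr 1
    apply pow_congr_of E.T6
    rw [inv7]
    have : ∀ a : ZMod 7, a ≠ 0 → (5 * dl a) % 6 = dl (a ^ 5) % 6 := by decide
    exact this a ha
  ww := by
    change E.W * E.W = E.T ^ dl (-1)
    have : dl (-1) = 3 := by decide
    rw [this, E.WW, E.T3]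
  rel t ht := by
    change E.W * E.U ^ t.val * E.W = E.U ^ (-t⁻¹).val * E.W * E.T ^ dl (-t) * E.U ^ (-t⁻¹).val
    rw [inv7]
    have : ∀ t : ZMod 7, t ≠ 0 → (t.val, (-t ^ 5).val, dl (-t)) ∈ [(1, 6, 3), (2, 3, 5), (3, 2, 4), (4, 5, 1), (5, 4, 2),
      (6, 1, 0)] := by decide
    have h := this t ht
    simp only [List.mem_cons, List.not_mem_nil, or_false, Prod.mk.injEq] at h
    rcases h with ⟨h1, h2, h3⟩ | ⟨h1, h2, h3⟩ | ⟨h1, h2, h3⟩ | ⟨h1, h2, h3⟩ | ⟨h1, h2, h3⟩ | ⟨h1, h2, h3⟩ <;>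
      rw [h1, h2, h3]
    · exact E.rel1
    · exact E.rel2
    · exact E.rel3
    · exact E.rel4
    · exact E.rel5
    · exact E.rel6

/-- the representation of `SL₂(7)` -/
noncomputable def ρ : SpecialLinearGroup (Fin 2) (ZMod 7) →* GL Ix F := Lib.SL2Hom.hom E.rel

theorem ρ_up (t : ZMod 7) : E.ρ (Lib.SL2Hom.up t) = E.U ^ t.val := Lib.SL2Hom.hom_up E.rel t

theorem ρ_wl : E.ρ (Lib.SL2Hom.wl (ZMod 7)) = E.W := Lib.SL2Hom.hom_wl E.rel

/-- `2.A₇` -/
def L : Subgroup (GL Ix F) := Subgroup.closure (E.X '' Set.Iio 5)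

theorem X_mem {i : ℕ} (hi : i < 5) : E.X i ∈ E.L := Subgroup.subset_closure ⟨i, hi, rfl⟩

theorem U_mem : E.U ∈ E.L := by
  unfold U
  refine mul_mem (mul_mem (mul_mem (mul_mem ?_ (inv_mem ?_)) ?_) ?_) ?_ <;> exact E.X_mem (by norm_num)

theorem T_mem : E.T ∈ E.L := by
  unfold T
  refine mul_mem (mul_mem (mul_mem ?_ ?_) ?_) ?_ <;> exact E.X_mem (by norm_num)

theorem W_mem : E.W ∈ E.L := by
  unfold W
  refine mul_mem ?_ ?_ <;> exact E.X_mem (by norm_num)

theorem Z_mem : E.Z ∈ E.L := by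
  unfold Z
  refine mul_mem (mul_mem (mul_mem ?_ ?_) ?_) (mul_mem (mul_mem ?_ ?_) ?_) <;> exact E.X_mem (by norm_num)

theorem ρ_mem (g : SpecialLinearGroup (Fin 2) (ZMod 7)) : E.ρ g ∈ E.L := by
  rcases Lib.SL2Hom.hom_cases E.rel g with ⟨-, -, h⟩ | ⟨-, h⟩
  · change E.ρ g = E.U ^ _ * E.T ^ _ at h
    rw [h]
    exact mul_mem (pow_mem E.U_mem _) (pow_mem E.T_mem _)
  · change E.ρ g = E.U ^ _ * E.W * E.T ^ _ * E.U ^ _ at h
    rw [h]
    exact mul_mem (mul_mem (mul_mem (pow_mem E.U_mem _) E.W_mem) (pow_mem E.T_mem _)) (pow_mem E.U_mem _)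

theorem L_le : E.L ≤ spGL 3 F := by
  unfold L
  rw [Subgroup.closure_le]
  rintro _ ⟨i, hi, rfl⟩
  have hi' : i < 5 := hi
  interval_cases i
  · exact E.X0_sp
  · exact E.X1_sp
  · exact E.X2_sp
  · exact E.X3_sp
  · exact E.X4_sp

theorem ρ_neg_one : E.ρ (-1) = -1 := by
  have h : (-1 : SpecialLinearGroup (Fin 2) (ZMod 7)) = Lib.SL2Hom.wl (ZMod 7) * Lib.SL2Hom.wl (ZMod 7) := by
    apply Subtype.ext
    change (-1 : Matrix (Fin 2) (Fin 2) (ZMod 7)) = !![0, 1; -1, 0] * !![0, 1; -1, 0]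
    decide
  rw [h, map_mul, ρ_wl, E.WW]

end Env

section card

variable {F : Type u} [Field F]

theorem scalars_normal : (Geo.scalars Ix F).Normal := by
  refine ⟨fun n hn g => ?_⟩
  rw [Geo.mem_scalars_iff] at hn
  obtain ⟨c, hc⟩ := hn
  have h : g * n = n * g := by
    apply Units.ext
    rw [Units.val_mul, Units.val_mul, hc, Matrix.mul_smul, Matrix.smul_mul, Matrix.mul_one, Matrix.one_mul]
  rw [h, mul_inv_cancel_right, Geo.mem_scalars_iff]
  exact ⟨c, hc⟩

attribute [local instance] scalars_normal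

theorem mk_neg_one : (QuotientGroup.mk (-1 : GL Ix F) : GL Ix F ⧸ Geo.scalars Ix F) = 1 := by
  rw [QuotientGroup.eq_one_iff, Geo.mem_scalars_iff]
  exact ⟨-1, by rw [Units.val_neg, Units.val_neg, Units.val_one, Units.val_one, neg_smul, one_smul]⟩

/-- **Carmichael bound**: `2.A₇` modulo scalars. -/
theorem Env.card_quot (E : Env F) : Finite (E.L.map (QuotientGroup.mk' (Geo.scalars Ix F))) ∧
    Nat.card (E.L.map (QuotientGroup.mk' (Geo.scalars Ix F))) ≤ 2520 := by
  have h := CharactersDeep.Carmichael.card_closure_le 5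
    (fun i => (QuotientGroup.mk' (Geo.scalars Ix F)) (E.X i)) (by
      intro i hi
      change (QuotientGroup.mk' (Geo.scalars Ix F)) (E.X i) ^ 3 = 1
      rw [← map_pow]
      interval_cases i
      · rw [E.X0_cube, map_one]
      · rw [E.X1_cube, map_one]
      · rw [E.X2_cube, map_one]
      · rw [E.X3_cube, map_one]
      · rw [E.X4_cube, map_one]) (by
      intro i hi j hj hij
      change ((QuotientGroup.mk' (Geo.scalars Ix F)) (E.X i) * (QuotientGroup.mk' (Geo.scalars Ix F)) (E.X j)) ^ 2 = 1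
      rw [← map_mul, ← map_pow]
      have key : (E.X i * E.X j) ^ 2 = -1 := by
        interval_cases i <;> interval_cases j
        · exact absurd rfl hij
        · exact E.X0_X1
        · exact E.X0_X2
        · exact E.X0_X3
        · exact E.X0_X4
        · exact E.X1_X0
        · exact absurd rfl hij
        · exact E.X1_X2
        · exact E.X1_X3
        · exact E.X1_X4
        · exact E.X2_X0
        · exact E.X2_X1
        · exact absurd rfl hij
        · exact E.X2_X3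
        · exact E.X2_X4
        · exact E.X3_X0
        · exact E.X3_X1
        · exact E.X3_X2
        · exact absurd rfl hij
        · exact E.X3_X4
        · exact E.X4_X0
        · exact E.X4_X1
        · exact E.X4_X2
        · exact E.X4_X3
        · exact absurd rfl hij
      rw [key]
      exact mk_neg_one)
  have e : Subgroup.closure ((fun i => (QuotientGroup.mk' (Geo.scalars Ix F)) (E.X i)) '' Set.Iio 5) =
      E.L.map (QuotientGroup.mk' (Geo.scalars Ix F)) := by
    unfold Env.L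
    rw [MonoidHom.map_closure, Set.image_image]
  rw [e] at h
  refine ⟨h.1, ?_⟩
  have h2 := h.2
  have h3 : (5 + 2).factorial = 5040 := by decide
  omega

/-- symmetric matrices -/
def sy (s : Fin 6 → F) : Matrix (Fin 3) (Fin 3) F := !![s 0, s 1, s 2; s 1, s 3, s 4; s 2, s 4, s 5]

theorem sy_transpose (s : Fin 6 → F) : (sy s)ᵀ = sy s := by
  ext i j
  fin_cases i <;> fin_cases j <;> rfl

theorem sy_injective : Function.Injective (sy (F := F)) := by
  intro s t h
  funext i
  fin_cases i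
  · exact congrFun (congrFun h 0) 0
  · exact congrFun (congrFun h 0) 1
  · exact congrFun (congrFun h 0) 2
  · exact congrFun (congrFun h 1) 1
  · exact congrFun (congrFun h 1) 2
  · exact congrFun (congrFun h 2) 2

/-- unipotent elements of `Sp₆` -/
def un (s : Fin 6 → F) : GL Ix F :=
  ⟨Matrix.fromBlocks 1 (sy s) 0 1, Matrix.fromBlocks 1 (-sy s) 0 1, by
    rw [Matrix.fromBlocks_multiply]
    simp, by
    rw [Matrix.fromBlocks_multiply]
    simp⟩

theorem un_mem (s : Fin 6 → F) : un s ∈ spGL 3 F := by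
  apply mem_spGL_of
  change (Matrix.fromBlocks 1 (sy s) 0 1)ᵀ * Matrix.fromBlocks 0 (-1) 1 0 * Matrix.fromBlocks 1 (sy s) 0 1 =
    Matrix.fromBlocks 0 (-1) 1 0
  rw [Matrix.fromBlocks_transpose, Matrix.fromBlocks_multiply, Matrix.fromBlocks_multiply, sy_transpose]
  simp

theorem un_inj {s t : Fin 6 → F} (h : (un s)⁻¹ * un t ∈ Geo.scalars Ix F) : s = t := by
  rw [Geo.mem_scalars_iff] at h
  obtain ⟨c, hc⟩ := h
  have h1 : ((un s)⁻¹ * un t : GL Ix F).1 = Matrix.fromBlocks 1 (sy t - sy s) 0 1 := by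
    change Matrix.fromBlocks 1 (-sy s) 0 1 * Matrix.fromBlocks 1 (sy t) 0 1 = _
    rw [Matrix.fromBlocks_multiply]
    congr 1
    · simp
    · simp [sub_eq_add_neg]
    · simp
    · simp
  rw [h1] at hc
  apply sy_injective
  have h2 : sy t - sy s = 0 := by
    ext i j
    have h3 := congrFun (congrFun hc (Sum.inl i)) (Sum.inr j)
    rw [Matrix.fromBlocks_apply₁₂] at h3
    rw [h3]
    simp
  exact (sub_eq_zero.1 h2).symm

/-- a conjugate of `2.A₇` is not all of `Sp₆(9)` -/
theorem Env.ne_spGL [Fintype F] (hF : Fintype.card F = 9) (E : Env F) (B : GL Ix F) :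
    E.L.map (MulAut.conj B).toMonoidHom ≠ spGL 3 F := by
  intro h
  obtain ⟨hfin, hcard⟩ := E.card_quot
  have key : ∀ s : Fin 6 → F, B⁻¹ * un s * B ∈ E.L := by
    intro s
    have h1 := un_mem s
    rw [← h] at h1
    obtain ⟨l, hl, hl2⟩ := h1
    have h2 : B * l * B⁻¹ = un s := hl2
    rw [← h2]
    have h3 : B⁻¹ * (B * l * B⁻¹) * B = l := by group
    rw [h3]
    exact hl
  let f : (Fin 6 → F) → E.L.map (QuotientGroup.mk' (Geo.scalars Ix F)) :=
    fun s => ⟨QuotientGroup.mk' (Geo.scalars Ix F) (B⁻¹ * un s * B), ⟨_, key s, rfl⟩⟩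
  have hf : Function.Injective f := by
    intro s t hst
    have h1 : QuotientGroup.mk' (Geo.scalars Ix F) (B⁻¹ * un s * B) = QuotientGroup.mk' (Geo.scalars Ix F) (B⁻¹ * un t * B) :=
      congrArg Subtype.val hst
    rw [QuotientGroup.mk'_apply, QuotientGroup.mk'_apply, QuotientGroup.eq] at h1
    apply un_inj
    have h2 := scalars_normal.conj_mem _ h1 B
    have h3 : B * ((B⁻¹ * un s * B)⁻¹ * (B⁻¹ * un t * B)) * B⁻¹ = (un s)⁻¹ * un t := by group
    rwa [h3] at h2
  have h4 := Nat.card_le_card_of_injective f hf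
  rw [Nat.card_eq_fintype_card (α := Fin 6 → F), Fintype.card_fun, hF, Fintype.card_fin] at h4
  omega

end card

end Cfsg.Agent.H156.SN
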