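import Cfsg.Agent.H156.SN.Outer

/-!
# `L₂(7)` is not the socle of a maximal residual subgroup of `Sp₆(9)` (helper156)

`seven_nine` : `2.L₂(7) < 2.A₇ < Sp₆(9)`.
-/

set_option autoImplicit false
set_option linter.unusedSectionVars false

namespace Cfsg.Agent.H156.SNT

open Matrix Cfsg Cfsg.Geo Cfsg.Agent.H915.LD Cfsg.Agent.H914.S6
open Cfsg.Agent.H156.SN (Ix fact7 two_eq Env)

universe u

attribute [local instance] fact7

/-! ### the model -/

theorem good_model {F : Type u} [Field F] (E : Env F) : Good E.ρ E.η where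
  neg := E.ρ_neg_one
  inv g := by
    rw [map_inv]
    exact H914.S6.tr_inv (E.L_le (E.ρ_mem g))
  uni := by
    have h : E.ρ (Cfsg.Agent.H464.Sl2.u 1) = E.U := by
      have h1 : (Cfsg.Agent.H464.Sl2.u 1 : SL7) = Lib.SL2Hom.up 1 := rfl
      rw [h1, E.ρ_up]
      have h2 : (1 : ZMod 7).val = 1 := by decide
      rw [h2, pow_one]
    rw [h]
    exact E.tr_U
  s := by
    have h : E.ρ (Cfsg.Agent.H464.Sl2.u 3 * Cfsg.Agent.H464.Sl2.w 1) = E.U ^ 3 * (-1 * E.W) := by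
      have h1 : (Cfsg.Agent.H464.Sl2.u 3 : SL7) = Lib.SL2Hom.up 3 := rfl
      have h2 : (3 : ZMod 7).val = 3 := by decide
      have h3 : (Cfsg.Agent.H464.Sl2.w 1 : SL7) = -1 * Lib.SL2Hom.wl (ZMod 7) := by
        apply Subtype.ext
        change !![0, -((1⁻¹ : (ZMod 7)ˣ) : ZMod 7); ((1 : (ZMod 7)ˣ) : ZMod 7), 0] = -1 * !![0, 1; -1, 0]
        decide
      rw [map_mul, h1, h3, map_mul, E.ρ_up, E.ρ_wl, E.ρ_neg_one, h2]
    rw [h]
    exact E.tr_s

/-- equal traces and one absolutely irreducible: the other one spans too -/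
theorem span_of_trace {G : Type} [Group G] [Fintype G] {F : Type u} [Field F] (ρ₁ ρ₂ : G →* Matrix Ix Ix F)
    (h₂ : Submodule.span F (Set.range ρ₂) = ⊤) (htr : ∀ g, (ρ₁ g).trace = (ρ₂ g).trace) :
    Submodule.span F (Set.range ρ₁) = ⊤ := by
  classical
  set T₁ := Fintype.linearCombination F (ρ₁ : G → Matrix Ix Ix F) with hT₁
  set T₂ := Fintype.linearCombination F (ρ₂ : G → Matrix Ix Ix F) with hT₂
  have hker : LinearMap.ker T₁ ≤ LinearMap.ker T₂ := by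
    intro c hc
    rw [LinearMap.mem_ker] at hc ⊢
    apply H906.eq_zero_of_trace_mul h₂
    rintro _ ⟨h, rfl⟩
    have e1 : (T₂ c * ρ₂ h).trace = ∑ g, c g * (ρ₂ (g * h)).trace := by
      rw [hT₂, Fintype.linearCombination_apply, Finset.sum_mul, Matrix.trace_sum]
      refine Finset.sum_congr rfl fun g _ => ?_
      rw [smul_mul_assoc, Matrix.trace_smul, ← map_mul, smul_eq_mul]
    have e2 : (T₁ c * ρ₁ h).trace = ∑ g, c g * (ρ₁ (g * h)).trace := by
      rw [hT₁, Fintype.linearCombination_apply, Finset.sum_mul, Matrix.trace_sum]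
      refine Finset.sum_congr rfl fun g _ => ?_
      rw [smul_mul_assoc, Matrix.trace_smul, ← map_mul, smul_eq_mul]
    simp only [← htr] at e1
    rw [e1, ← e2, hc, zero_mul, Matrix.trace_zero]
  have h1 := LinearMap.finrank_range_add_finrank_ker T₁
  have h2 := LinearMap.finrank_range_add_finrank_ker T₂
  have h3 := Submodule.finrank_mono hker
  have h4 : LinearMap.range T₂ = ⊤ := by
    rw [hT₂, Fintype.range_linearCombination]
    exact h₂
  rw [h4, finrank_top] at h2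
  have h5 := Submodule.finrank_le (LinearMap.range T₁)
  have h6 : LinearMap.range T₁ = ⊤ := Submodule.eq_top_of_finrank_eq (by omega)
  rw [hT₁, Fintype.range_linearCombination] at h6
  exact h6

variable {F : Type u} [Field F] [Fintype F] {H P : Subgroup (GL (Fin 3 ⊕ Fin 3) F)}

theorem span_core {ρ : SL7 →* GL Ix F} (hC : Core P) (hρ : ρ.range = P) :
    Submodule.span F (Set.range fun g => (ρ g : Matrix Ix Ix F)) = ⊤ := by
  rw [← Cfsg.Agent.H920.span_eq_top hC.absIrred]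
  congr 1
  ext X
  constructor
  · rintro ⟨g, rfl⟩
    exact ⟨ρ g, by rw [← hρ]; exact ⟨g, rfl⟩, rfl⟩
  · rintro ⟨x, hx, rfl⟩
    rw [← hρ] at hx
    obtain ⟨g, rfl⟩ := hx
    exact ⟨g, rfl⟩

/-- conjugation by an element normalising `P` -/
def cjP {H P : Subgroup (GL Ix F)} (hn : ∀ h ∈ H, ∀ x ∈ P, h * x * h⁻¹ ∈ P) (h : GL Ix F) (hh : h ∈ H) : MulAut P where
  toFun x := ⟨h * x.1 * h⁻¹, hn h hh x.1 x.2⟩
  invFun x := ⟨h⁻¹ * x.1 * h, by
    have := hn h⁻¹ (inv_mem hh) x.1 x.2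
    rwa [inv_inv] at this⟩
  left_inv x := Subtype.ext (by simp [mul_assoc])
  right_inv x := Subtype.ext (by simp [mul_assoc])
  map_mul' x y := Subtype.ext (by simp [mul_assoc])

theorem ringAut7 (σ : ZMod 7 ≃+* ZMod 7) (x : ZMod 7) : σ x = x := by
  have h : x = ((x.val : ℕ) : ZMod 7) := (ZMod.natCast_zmod_val x).symm
  rw [h, map_natCast]

theorem sq_or : ∀ d : ZMod 7, d ≠ 0 → ∃ e : ZMod 7, e ≠ 0 ∧ (d = e ^ 2 ∨ d = -e ^ 2) := by decide

/-- **`H ≤ P`** -/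
theorem H_le_P (S : Hyp 3 H P) (hF : Fintype.card F = 9) {ρ : SL7 →* GL Ix F} {η : F} (hρ : ρ.range = P)
    (hker : ρ.ker ≤ Subgroup.center SL7) (hG : Good ρ η) : H ≤ P := by
  have h3 := char_three hF
  have hmem : ∀ g, ρ g ∈ P := fun g => by rw [← hρ]; exact ⟨g, rfl⟩
  have hn : ∀ g, ρ (-g) = -ρ g := by
    intro g
    rw [← neg_one_mul, map_mul, hG.neg, neg_one_mul]
  -- an element acting as an inner automorphism
  have hinn : ∀ h ∈ H, ∀ y : SL7, (∀ x, h * ρ x * h⁻¹ = ρ (y * x * y⁻¹)) → h = ρ y ∨ h = -ρ y := by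
    intro h hh y hy
    apply S.inner hh (hmem y)
    intro x hx
    rw [← hρ] at hx
    obtain ⟨g, rfl⟩ := hx
    have e1 : ((ρ y)⁻¹ * h) * ρ g * ((ρ y)⁻¹ * h)⁻¹ * (ρ g)⁻¹ = (ρ y)⁻¹ * (h * ρ g * h⁻¹) * ρ y * (ρ g)⁻¹ := by group
    rw [e1, hy, map_mul, map_mul, map_inv]
    have e2 : (ρ y)⁻¹ * (ρ y * ρ g * (ρ y)⁻¹) * ρ y * (ρ g)⁻¹ = 1 := by group
    rw [e2]
    exact one_mem _
  -- the map onto `P`
  let π : SL7 →* P := ρ.codRestrict P hmem
  have hπ : Function.Surjective π := by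
    rintro ⟨x, hx⟩
    rw [← hρ] at hx
    obtain ⟨g, rfl⟩ := hx
    exact ⟨g, rfl⟩
  have hkπ : π.ker ≤ Subgroup.center SL7 := by
    intro g hg
    apply hker
    rw [MonoidHom.mem_ker] at hg ⊢
    exact congrArg Subtype.val hg
  intro h hh
  obtain ⟨g, σ, hgs⟩ := Lib.AutSL2.exists_gl_ringEquiv π hπ hkπ (cjP S.core.normal h hh)
  have hσ : ∀ x : SL7, Lib.SL2Mat.fieldAut σ x = x := by
    intro x
    apply Subtype.ext
    ext i j
    exact ringAut7 σ _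
  have hact : ∀ x, h * ρ x * h⁻¹ = ρ (Lib.SL2Mat.conjGL g x) := by
    intro x
    have h1 := congrArg Subtype.val (hgs x)
    rw [hσ] at h1
    exact h1
  have hd : g.1.det ≠ 0 := by
    have h1 : g.1.det * (g⁻¹).1.det = 1 := by
      rw [← Matrix.det_mul, ← Units.val_mul, mul_inv_cancel, Units.val_one, Matrix.det_one]
    intro h0
    rw [h0, zero_mul] at h1
    exact zero_ne_one h1
  obtain ⟨e, he, hde⟩ := sq_or _ hd
  rcases hde with hde | hde
  · obtain ⟨y, hy⟩ := Lib.AutSL2Out.conjGL_of_det_sq g e he hde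
    rcases hinn h hh y (fun x => by rw [hact, hy]) with h1 | h1
    · rw [h1]; exact hmem y
    · rw [h1, ← hn]; exact hmem _
  · exfalso
    obtain ⟨y, hy⟩ := Lib.AutSL2Out.conjGL_of_det_sq (g * g1⁻¹) e he (by
      have h1 : g1.1.det * (g1⁻¹).1.det = 1 := by
        rw [← Matrix.det_mul, ← Units.val_mul, mul_inv_cancel, Units.val_one, Matrix.det_one]
      rw [g1_det] at h1
      rw [Units.val_mul, Matrix.det_mul, hde]
      linear_combination e ^ 2 * h1)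
    have hg : ∀ x, Lib.SL2Mat.conjGL g x = y * Lib.SL2Mat.conjGL g1 x * y⁻¹ := by
      intro x
      rw [← hy]
      rw [← MulAut.mul_apply, ← map_mul, inv_mul_cancel_right]
    have hH : (ρ y)⁻¹ * h ∈ H := H.mul_mem (H.inv_mem (S.core.le (hmem y))) hh
    have hβ : ∀ x, ((ρ y)⁻¹ * h) * ρ x = ρ (Lib.SL2Mat.conjGL g1 x) * ((ρ y)⁻¹ * h) := by
      intro x
      have h1 := hact x
      rw [hg, map_mul, map_mul, map_inv] at h1
      have h2 : h * ρ x = ρ y * ρ (Lib.SL2Mat.conjGL g1 x) * (ρ y)⁻¹ * h := by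
        rw [← h1, inv_mul_cancel_right]
      rw [mul_assoc, h2]
      simp only [mul_assoc, inv_mul_cancel_left]
    refine outer_false h3 hF hG.neg (span_core S.toCore hρ) hβ ?_
    apply hinn _ (H.mul_mem hH hH)
    intro x
    have h1 : ∀ x, ((ρ y)⁻¹ * h) * ρ x * ((ρ y)⁻¹ * h)⁻¹ = ρ (Lib.SL2Mat.conjGL g1 x) := by
      intro x
      rw [hβ, mul_inv_cancel_right]
    have h2 : (ρ y)⁻¹ * h * ((ρ y)⁻¹ * h) * ρ x * ((ρ y)⁻¹ * h * ((ρ y)⁻¹ * h))⁻¹ =
        ((ρ y)⁻¹ * h) * (((ρ y)⁻¹ * h) * ρ x * ((ρ y)⁻¹ * h)⁻¹) * ((ρ y)⁻¹ * h)⁻¹ := by group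
    rw [h2, h1, h1, ← MulAut.mul_apply, ← map_mul, g1_sq, Lib.SL2Mat.conjGL_toGL]

/-- **`2.L₂(7) < 2.A₇ < Sp₆(9)`.** -/
theorem seven_nine (S : Cfsg.Agent.H914.S6.Hyp 3 H P)
    (e : Nonempty (Cfsg.Agent.H915.LD.Soc P ≃* Matrix.ProjectiveSpecialLinearGroup (Fin 2) (ZMod 7)))
    (hF : Fintype.card F = 9) : False := by
  obtain ⟨ρ, E, hρ, hker, hG⟩ := exists_good S e hF
  have h3 := char_three hF
  have hmem : ∀ g, ρ g ∈ P := fun g => by rw [← hρ]; exact ⟨g, rfl⟩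
  have hHP := H_le_P S hF hρ hker hG
  have htr : ∀ g, tr (E.ρ g) = tr (ρ g) := fun g => by rw [hG.val h3, (good_model E).val h3]
  have hsp := span_core S.toCore hρ
  have hsp' := span_of_trace ((Units.coeHom (Matrix Ix Ix F)).comp E.ρ) ((Units.coeHom (Matrix Ix Ix F)).comp ρ) hsp htr
  obtain ⟨B, hB⟩ := H906.exists_conj_of_trace ((Units.coeHom (Matrix Ix Ix F)).comp E.ρ)
    ((Units.coeHom (Matrix Ix Ix F)).comp ρ) hsp' hsp htr
  have hB' : ∀ g, ρ g = B * E.ρ g * B⁻¹ := fun g => Units.ext (hB g)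
  have hPL : P ≤ E.L.map (MulAut.conj B).toMonoidHom := by
    intro x hx
    rw [← hρ] at hx
    obtain ⟨g, rfl⟩ := hx
    exact ⟨E.ρ g, E.ρ_mem g, (hB' g).symm⟩
  have hLs : E.L.map (MulAut.conj B).toMonoidHom ≤ spGL 3 F := by
    apply H914.S6.le_spGL_of_real (by norm_num) S.core.absIrred S.P_le hPL
    rintro _ ⟨l, hl, rfl⟩
    have h1 : (MulAut.conj B).toMonoidHom l = B * l * B⁻¹ := rfl
    have h2 : (B * l * B⁻¹)⁻¹ = B * l⁻¹ * B⁻¹ := by group
    rw [h1, h2, H915.LD.tr_conj, H915.LD.tr_conj]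
    exact H914.S6.tr_inv (E.L_le hl)
  refine S.false_of_lt (L := E.L.map (MulAut.conj B).toMonoidHom) (lt_of_le_of_ne (hHP.trans hPL) ?_)
    (lt_of_le_of_ne hLs (E.ne_spGL hF B))
  intro heq
  have h1 : B * E.Z * B⁻¹ ∈ H := by
    rw [heq]
    exact ⟨E.Z, E.Z_mem, rfl⟩
  have h2 := hHP h1
  rw [← hρ] at h2
  obtain ⟨g, hg⟩ := h2
  have h4 : (B * E.Z * B⁻¹) ^ 168 = 1 := by
    rw [← hg, ← map_pow, pow_168, map_one]
  rw [conj_pow, show 168 = 5 * 33 + 3 by norm_num, pow_add, pow_mul, E.Z5, one_pow, one_mul] at h4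
  have h5 : E.Z ^ 3 = 1 := by
    have : B⁻¹ * (B * E.Z ^ 3 * B⁻¹) * B = E.Z ^ 3 := by group
    rw [← this, h4]
    group
  apply E.Z_ne_one
  have h6 : E.Z = E.Z ^ 3 * E.Z ^ 3 * (E.Z ^ 5)⁻¹ := by group
  rw [h6, h5, E.Z5]
  group

end Cfsg.Agent.H156.SNT
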