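import Cfsg.Agent.H156.SN.Rep
import Cfsg.Agent.Lib.AutSL2Out

/-!
# No outer automorphism of `SL₂(7)` is induced in `Sp₆(9)` (helper156)
-/

set_option autoImplicit false
set_option linter.unusedSectionVars false

namespace Cfsg.Agent.H156.SNT

open Matrix Cfsg Cfsg.Geo Cfsg.Agent.H915.LD Cfsg.Agent.Lib.SL2Mat
open Cfsg.Agent.H156.SN (Ix fact7 two_eq Env)

universe u

attribute [local instance] fact7

/-- `2 × 2` matrices modulo `7` -/
abbrev M7 : Type := Matrix (Fin 2) (Fin 2) (ZMod 7)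

theorem anti : ∀ a b c : ZMod 7, a * a + b * c = 1 → ∃ p q r : ZMod 7, p * p + q * r = -1 ∧ 2 * a * p + b * r + c * q = 0 := by
  decide +kernel

theorem sqf (A B t : ZMod 7) (m : M7) (h : m * m = t • m + 1) :
    (A • m + B • (1 : M7)) * (A • m + B • 1) = (A ^ 2 * t + 2 * A * B) • m + (A ^ 2 + B ^ 2) • (1 : M7) := by
  simp only [Matrix.mul_add, Matrix.add_mul, Matrix.smul_mul, Matrix.mul_smul, h, Matrix.one_mul, Matrix.mul_one]
  module

/-- Cayley–Hamilton in determinant `-1` -/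
theorem ch_neg {m : M7} (h : m.det = -1) : m * m = m.trace • m + 1 := by
  rw [Matrix.det_fin_two] at h
  ext i j
  rw [Matrix.trace_fin_two]
  fin_cases i <;> fin_cases j <;> simp [Matrix.mul_apply, Fin.sum_univ_two] <;>
    first | ring1 | linear_combination -h | linear_combination h

theorem pow_eight {m : M7} (h : m.det = -1) (ht : m.trace = 1 ∨ m.trace = -1 ∨ m.trace = 3 ∨ m.trace = -3) :
    m ^ 8 = -1 := by
  have h1 := ch_neg h
  set t := m.trace with htd
  have h2 : m ^ 2 = t • m + (1 : ZMod 7) • (1 : M7) := by rw [pow_two, h1, one_smul]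
  have h4 : m ^ 4 = (t ^ 2 * t + 2 * t * 1) • m + (t ^ 2 + 1 ^ 2) • (1 : M7) := by
    rw [show m ^ 4 = m ^ 2 * m ^ 2 by rw [← pow_add], h2]
    exact sqf t 1 t m h1
  have h8 : m ^ 8 = ((t ^ 2 * t + 2 * t * 1) ^ 2 * t + 2 * (t ^ 2 * t + 2 * t * 1) * (t ^ 2 + 1 ^ 2)) • m +
      ((t ^ 2 * t + 2 * t * 1) ^ 2 + (t ^ 2 + 1 ^ 2) ^ 2) • (1 : M7) := by
    rw [show m ^ 8 = m ^ 4 * m ^ 4 by rw [← pow_add], h4]
    exact sqf _ _ t m h1
  have key : ∀ t : ZMod 7, (t = 1 ∨ t = -1 ∨ t = 3 ∨ t = -3) →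
      (t ^ 2 * t + 2 * t * 1) ^ 2 * t + 2 * (t ^ 2 * t + 2 * t * 1) * (t ^ 2 + 1 ^ 2) = 0 ∧
      (t ^ 2 * t + 2 * t * 1) ^ 2 + (t ^ 2 + 1 ^ 2) ^ 2 = -1 := by decide
  obtain ⟨k1, k2⟩ := key t ht
  rw [h8, k1, k2, zero_smul, zero_add, neg_smul, one_smul]

theorem trace_cube {m : M7} (h : m.det = -1) (ht : m.trace = 2 ∨ m.trace = -2) : (m ^ 3).trace = 0 := by
  have h1 := ch_neg h
  have h2 : m ^ 3 = (m.trace ^ 2 + 1) • m + m.trace • 1 := by
    rw [pow_succ, pow_two, h1, Matrix.add_mul, Matrix.smul_mul, h1, Matrix.one_mul]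
    module
  rw [h2, Matrix.trace_add, Matrix.trace_smul, Matrix.trace_smul, Matrix.trace_one, Fintype.card_fin, smul_eq_mul,
    smul_eq_mul]
  rcases ht with ht | ht <;> rw [ht] <;> decide

/-- an element of determinant `1` inverting the sign of an element of trace zero -/
theorem exists_anti {m : M7} (h : m.det = -1) (ht : m.trace = 0) : ∃ z : SL7, z.1 * m = -(m * z.1) := by
  rw [Matrix.det_fin_two] at h
  rw [Matrix.trace_fin_two] at ht
  obtain ⟨p, q, r, h1, h2⟩ := anti (m 0 0) (m 0 1) (m 1 0) (by linear_combination m 0 0 * ht - h)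
  refine ⟨⟨!![p, q; r, -p], by rw [Matrix.det_fin_two]; simp; linear_combination -h1⟩, ?_⟩
  change !![p, q; r, -p] * m = -(m * !![p, q; r, -p])
  ext i j
  fin_cases i <;> fin_cases j <;> simp [Matrix.mul_apply, Fin.sum_univ_two]
  · linear_combination h2
  · linear_combination q * ht
  · linear_combination r * ht
  · linear_combination h2 - 2 * p * ht

/-- an element of `GL₂(7)` of determinant `-1` whose square is `s` -/
def g1 : GL (Fin 2) (ZMod 7) := ⟨!![2, -1; 1, -1], !![1, -1; 1, -2], by decide, by decide⟩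

theorem g1_det : g1.1.det = -1 := by decide

/-- its square -/
def s1 : SL7 := ⟨!![3, -1; 1, 0], by decide⟩

theorem g1_sq : g1 * g1 = SpecialLinearGroup.toGL s1 := by
  apply Units.ext
  change !![2, -1; 1, -1] * !![2, -1; 1, -1] = !![3, -1; 1, (0 : ZMod 7)]
  decide

theorem toGL_conj (x : SL7) : SpecialLinearGroup.toGL (conjGL g1 x) = g1 * SpecialLinearGroup.toGL x * g1⁻¹ := by
  apply Units.ext
  rfl

theorem t_cases : ∀ t : ZMod 7, t = 0 ∨ (t = 2 ∨ t = -2) ∨ (t = 1 ∨ t = -1 ∨ t = 3 ∨ t = -3) := by decide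

variable {F : Type u} [Field F] [Fintype F] {ρ : SL7 →* GL Ix F}

/-- **no outer automorphism** -/
theorem outer_false (h3 : (3 : F) = 0) (hF : Fintype.card F = 9) (hneg : ρ (-1) = -1)
    (hspan : Submodule.span F (Set.range fun g => (ρ g : Matrix Ix Ix F)) = ⊤) {h : GL Ix F}
    (hβ : ∀ x, h * ρ x = ρ (conjGL g1 x) * h) (hsq : h * h = ρ s1 ∨ h * h = -ρ s1) : False := by
  have hch := charP_three h3
  have : Fact (Nat.Prime 3) := ⟨by norm_num⟩
  set Ψ : SL7 → F := fun g => tr (h * ρ g) with hΨ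
  set c3 : SL7 → SL7 := fun g => g * conjGL g1 g * s1 * g with hc3
  have hn : ∀ g, ρ (-g) = -ρ g := by
    intro g
    rw [← neg_one_mul, map_mul, hneg, neg_one_mul]
  have hΨn : ∀ g, Ψ (-g) = -Ψ g := by
    intro g
    simp only [hΨ]
    rw [hn, mul_neg, tr_neg]
  -- conjugation
  have hΨc : ∀ z g, Ψ (z * g * (conjGL g1 z)⁻¹) = Ψ g := by
    intro z g
    simp only [hΨ]
    have e1 : h * ρ (z * g * (conjGL g1 z)⁻¹) = ρ (conjGL g1 z) * (h * ρ g) * (ρ (conjGL g1 z))⁻¹ := by
      rw [map_mul, map_mul, map_inv, ← mul_assoc, ← mul_assoc, hβ]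
      simp only [mul_assoc]
    rw [e1, H915.LD.tr_conj]
  -- cubes
  obtain ⟨ε, hε, hcu⟩ : ∃ ε : F, (ε = 1 ∨ ε = -1) ∧ ∀ g, Ψ g ^ 3 = ε * Ψ (c3 g) := by
    have e0 : ∀ g, (h * ρ g) ^ 3 = h * ρ g * (ρ (conjGL g1 g) * (h * h) * ρ g) := by
      intro g
      rw [pow_succ', pow_two]
      congr 1
      rw [← mul_assoc (h * ρ g) h, hβ g, mul_assoc (ρ _) h h]
    have e1 : ∀ g, Ψ g ^ 3 = tr ((h * ρ g) ^ 3) := by
      intro g
      have := tr_pow_char 3 (h * ρ g) 1
      rw [pow_one] at this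
      exact this.symm
    rcases hsq with hsq | hsq
    · refine ⟨1, Or.inl rfl, fun g => ?_⟩
      rw [e1, e0, hsq, one_mul]
      simp only [hΨ, hc3]
      congr 1
      simp only [map_mul, mul_assoc]
    · refine ⟨-1, Or.inr rfl, fun g => ?_⟩
      rw [e1, e0, hsq, neg_one_mul]
      simp only [hΨ, hc3]
      rw [← tr_neg]
      congr 1
      simp only [map_mul, mul_assoc, mul_neg, neg_mul]
  -- the corresponding elements of `GL₂(7)`
  set m : SL7 → GL (Fin 2) (ZMod 7) := fun g => g1 * SpecialLinearGroup.toGL g with hm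
  have hmc : ∀ g, m (c3 g) = m g ^ 3 := by
    intro g
    simp only [hm, hc3]
    rw [map_mul, map_mul, map_mul, toGL_conj, ← g1_sq, pow_succ, pow_two]
    group
  have hmdet : ∀ g, (m g).1.det = -1 := by
    intro g
    change (g1.1 * g.1).det = -1
    rw [Matrix.det_mul, g1_det, g.2, mul_one]
  have hminj : ∀ g g', (m g).1 = -(m g').1 → g = -g' := by
    intro g g' hgg
    apply Subtype.ext
    change g.1 = -g'.1
    have h4 : g1.1 * g.1 = g1.1 * (-g'.1) := by
      rw [Matrix.mul_neg]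
      exact hgg
    have h5 := congrArg (fun x => g1⁻¹.1 * x) h4
    simp only [← Matrix.mul_assoc] at h5
    rw [← Units.val_mul, inv_mul_cancel, Units.val_one, Matrix.one_mul, Matrix.one_mul] at h5
    exact h5
  -- trace zero
  have hz : ∀ x : F, x = -x → x = 0 := by
    intro x hx
    have h6 : (2 : F) * x = 0 := by linear_combination hx
    rw [two_eq h3] at h6
    linear_combination -h6
  have h0 : ∀ g, (m g).1.trace = 0 → Ψ g = 0 := by
    intro g hg
    obtain ⟨z, hz1⟩ := exists_anti (hmdet g) hg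
    have h5 : (conjGL g1).symm z * g * (conjGL g1 ((conjGL g1).symm z))⁻¹ = -g := by
      rw [MulEquiv.apply_symm_apply]
      apply hminj
      have h6 : m ((conjGL g1).symm z * g * z⁻¹) = SpecialLinearGroup.toGL z * m g * (SpecialLinearGroup.toGL z)⁻¹ := by
        have h7 : g1 * SpecialLinearGroup.toGL ((conjGL g1).symm z) = SpecialLinearGroup.toGL z * g1 := by
          have h8 := toGL_conj ((conjGL g1).symm z)
          rw [MulEquiv.apply_symm_apply] at h8
          rw [h8, inv_mul_cancel_right]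
        simp only [hm]
        rw [map_mul, map_mul, ← mul_assoc, ← mul_assoc, h7, map_inv]
        simp only [mul_assoc]
      rw [h6]
      change z.1 * (m g).1 * (SpecialLinearGroup.toGL z)⁻¹.1 = -(m g).1
      rw [hz1, Matrix.neg_mul, Matrix.mul_assoc]
      have h9 : z.1 * (SpecialLinearGroup.toGL z)⁻¹.1 = 1 := by
        have h10 : (SpecialLinearGroup.toGL z).1 * (SpecialLinearGroup.toGL z)⁻¹.1 = 1 := by
          rw [← Units.val_mul, mul_inv_cancel, Units.val_one]
        exact h10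
      rw [h9, Matrix.mul_one]
    have h6 := hΨc ((conjGL g1).symm z) g
    rw [h5, hΨn] at h6
    exact hz _ h6.symm
  have hall : ∀ g, Ψ g = 0 := by
    intro g
    rcases t_cases (m g).1.trace with ht | ht | ht
    · exact h0 g ht
    · have h4 : Ψ (c3 g) = 0 := by
        apply h0
        rw [hmc, Units.val_pow_eq_pow_val]
        exact trace_cube (hmdet g) ht
      have h5 := hcu g
      rw [h4, mul_zero] at h5
      exact pow_eq_zero_iff three_ne_zero |>.1 h5
    · have h4 := pow_eight (hmdet g) ht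
      have h5 : c3 (c3 g) = -g := by
        apply hminj
        rw [hmc, hmc, ← pow_mul, Units.val_pow_eq_pow_val, show 3 * 3 = 8 + 1 by norm_num, pow_succ, h4,
          Matrix.neg_mul, Matrix.one_mul]
      have h6 : Ψ g ^ 9 = Ψ g := by
        have := FiniteField.pow_card (Ψ g)
        rwa [hF] at this
      have h7 : Ψ g ^ 9 = Ψ (c3 (c3 g)) := by
        rw [show 9 = 3 * 3 by norm_num, pow_mul, hcu, mul_pow, hcu, ← mul_assoc]
        have h8 : ε ^ 3 * ε = 1 := by
          rcases hε with h | h <;> rw [h] <;> ring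
        rw [h8, one_mul]
      rw [h6, h5, hΨn] at h7
      exact hz _ h7
  have hzero := H906.eq_zero_of_trace_mul hspan (X := (h : Matrix Ix Ix F)) (by
    rintro _ ⟨g, rfl⟩
    exact hall g)
  have h4 : (h : Matrix Ix Ix F) * ((h⁻¹ : GL Ix F) : Matrix Ix Ix F) = 1 := by
    rw [← Units.val_mul, mul_inv_cancel, Units.val_one]
  rw [hzero, Matrix.zero_mul] at h4
  have h5 := congrFun (congrFun h4 (Sum.inl 0)) (Sum.inl 0)
  rw [Matrix.zero_apply, Matrix.one_apply_eq] at h5
  exact zero_ne_one h5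

end Cfsg.Agent.H156.SNT
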