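import Cfsg.Agent.H156.SN.Tr

/-!
# The representation of the core `P ≅ SL₂(7)` in `Sp₆(9)` (helper156)
-/

set_option autoImplicit false
set_option linter.unusedSectionVars false

namespace Cfsg.Agent.H156.SNT

open Matrix Cfsg Cfsg.Geo Cfsg.Agent.H464.Sl2 Cfsg.Agent.H915.LD Cfsg.Agent.H914.S6
open Cfsg.Agent.H156.SN (Ix fact7 two_eq Env)

universe u

attribute [local instance] fact7

/-- the trace of a non-trivial unipotent element in degree six is `-1` -/
theorem tr_unip_six {F : Type u} [Field F] (h3 : (3 : F) = 0) (ρ : SL7 →* GL (Fin 6) F) (hρ : ρ ≠ 1)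
    (habs : ActsAbsolutelyIrreducibly (matrixSet ρ.range)) :
    (ρ (u 1) : Matrix (Fin 6) (Fin 6) F).trace = -1 := by
  classical
  have h7 : ((7 : ℕ) : F) ≠ 0 := by
    push_cast
    intro h
    apply one_ne_zero (α := F)
    linear_combination h - 2 * h3
  have hK := card_ne_zero (K := ZMod 7) h7 (AlgebraicClosure F)
  obtain ⟨ψ, hψ⟩ := exists_prim (K := ZMod 7) hK
  have hsp := span_ext ρ (AlgebraicClosure F) (span_eq_top ρ habs)
  have hne := ext_ne_one ρ (AlgebraicClosure F) hρ
  have hc : Fintype.card (ZMod 7) = 7 := ZMod.card 7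
  have h := dim_cases (ext ρ (AlgebraicClosure F)) hψ hK hsp hne
  rw [Module.finrank_fin_fun, hc] at h
  have h1 : ∀ b : ZMod 7, b ≠ 0 →
      Module.finrank (AlgebraicClosure F) (LinearMap.range (E (ext ρ (AlgebraicClosure F)) ψ b)) = 1 := by
    rcases h with ⟨h, -⟩ | ⟨-, h⟩
    · exact h
    · omega
  have h2 := finrank_eq (ext ρ (AlgebraicClosure F)) hψ hK
  rw [Module.finrank_fin_fun, Finset.sum_congr rfl fun b hb => h1 b (Finset.ne_of_mem_erase hb), Finset.sum_const,
    Finset.card_erase_of_mem (Finset.mem_univ _), Finset.card_univ, smul_eq_mul, mul_one, hc] at h2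
  have h0 : Module.finrank (AlgebraicClosure F) (LinearMap.range (E (ext ρ (AlgebraicClosure F)) ψ 0)) = 0 := by omega
  have h4 := Cfsg.Agent.H464.Sl2.trace_u (ext ρ (AlgebraicClosure F)) hψ hK 1
  have h5 : ∑ b : ZMod 7, ψ (b * 1) *
      (Module.finrank (AlgebraicClosure F) (LinearMap.range (E (ext ρ (AlgebraicClosure F)) ψ b)) :
        AlgebraicClosure F) = -1 := by
    have h6 : ∑ b : ZMod 7, ψ (b * 1) = 0 := by
      have h7 := AddChar.sum_mulShift (1 : ZMod 7) hψ
      rw [if_neg one_ne_zero, Nat.cast_zero] at h7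
      exact h7
    rw [← Finset.add_sum_erase _ _ (Finset.mem_univ (0 : ZMod 7))] at h6 ⊢
    rw [h0, Nat.cast_zero, mul_zero, zero_add]
    rw [Finset.sum_congr rfl fun b hb => by rw [h1 b (Finset.ne_of_mem_erase hb), Nat.cast_one, mul_one]]
    rw [zero_mul, AddChar.map_zero_eq_one] at h6
    linear_combination h6
  rw [h5, trace_ext] at h4
  apply (algebraMap F (AlgebraicClosure F)).injective
  rw [h4, map_neg, map_one]

variable {F : Type u} [Field F] [Fintype F] {H P : Subgroup (GL (Fin 3 ⊕ Fin 3) F)}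

theorem char_three (hF : Fintype.card F = 9) : (3 : F) = 0 := by
  have h : ((Fintype.card F : ℕ) : F) = 0 := Nat.cast_card_eq_zero F
  rw [hF] at h
  have h2 : (3 : F) * 3 = 0 := by
    rw [← h]
    norm_num
  exact mul_self_eq_zero.1 h2

theorem charP_three (h3 : (3 : F) = 0) : CharP F 3 := by
  apply CharP.congr (ringChar F)
  have h : ringChar F ∣ 3 := (ringChar.spec F 3).1 (by exact_mod_cast h3)
  rcases (Nat.dvd_prime (by norm_num)).1 h with h | h
  · exact absurd h (CharP.ringChar_ne_one)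
  · exact h

/-- the representation on `Fin n` -/
theorem rep_fin {ι : Type} [Fintype ι] [DecidableEq ι] {P : Subgroup (GL ι F)} (hC : Core P) (ρ : SL7 →* GL ι F)
    (hρ : ρ.range = P) :
    ∃ ρ' : SL7 →* GL (Fin (Fintype.card ι)) F,
      (∀ g, (ρ' g : Matrix (Fin (Fintype.card ι)) (Fin (Fintype.card ι)) F).trace = tr (ρ g)) ∧ ρ' ≠ 1 ∧
      ActsAbsolutelyIrreducibly (matrixSet ρ'.range) := by
  let re := reGL (F := F) (Fintype.equivFin ι)
  refine ⟨re.toMonoidHom.comp ρ, fun g => trace_reGL (Fintype.equivFin ι) (ρ g), ?_, ?_⟩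
  · intro h
    have h1 : ρ = 1 := by
      ext1 g
      apply re.injective
      have h2 := DFunLike.congr_fun h g
      rw [MonoidHom.one_apply, map_one]
      exact h2
    rw [h1] at hρ
    apply hC.nonabelian
    have h3 : Subsingleton P := by
      constructor
      rintro ⟨a, ha⟩ ⟨b, hb⟩
      rw [← hρ] at ha hb
      obtain ⟨x, rfl⟩ := ha
      obtain ⟨y, rfl⟩ := hb
      rfl
    have h2 : Subsingleton (P ⧸ (scalars ι F).subgroupOf P) := by
      constructor
      intro a b
      induction a using QuotientGroup.induction_on with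
      | H a =>
        induction b using QuotientGroup.induction_on with
        | H b => rw [Subsingleton.elim a b]
    exact ⟨⟨fun a b => Subsingleton.elim _ _⟩⟩
  · have h1 : (re.toMonoidHom.comp ρ).range = P.map re.toMonoidHom := by
      rw [MonoidHom.range_comp, hρ]
    rw [h1]
    exact absIrr_reGL _ hC.absIrred

theorem exists_good (S : Hyp 3 H P) (e : Nonempty (Soc P ≃* Matrix.ProjectiveSpecialLinearGroup (Fin 2) (ZMod 7)))
    (hF : Fintype.card F = 9) : ∃ (ρ : SL7 →* GL Ix F) (E : Env F), ρ.range = P ∧ ρ.ker ≤ Subgroup.center SL7 ∧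
      Good ρ E.η := by
  obtain ⟨e⟩ := e
  have h3 := char_three hF
  have hch := charP_three h3
  have : Fact (Nat.Prime 3) := ⟨by norm_num⟩
  have hC := S.toCore
  obtain ⟨ρ, hρ, hek⟩ := l2_rep hC (K := ZMod 7) (by rw [ZMod.card]; norm_num) (by rw [ZMod.card]; norm_num) e
  obtain ⟨ρ', htr, hne, habs⟩ := rep_fin hC ρ hρ
  have hker : ρ.ker ≤ Subgroup.center SL7 := by
    intro g hg
    rw [MonoidHom.mem_ker] at hg
    have h1 : ρ g ∈ P := by rw [hg]; exact one_mem _
    have h2 := hek g h1
    have h4 : (⟨ρ g, h1⟩ : P) = 1 := Subtype.ext hg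
    rw [h4, map_one, map_one] at h2
    exact (QuotientGroup.eq_one_iff g).1 h2.symm
  have hmem : ∀ g, ρ g ∈ P := fun g => by rw [← hρ]; exact ⟨g, rfl⟩
  have huni : tr (ρ (u 1)) = -1 := by
    rw [← htr]
    have h6 : Fintype.card Ix = 6 := by simp [Ix]
    clear htr
    revert ρ' hne habs
    rw [h6]
    intro ρ' hne habs
    exact tr_unip_six h3 ρ' hne habs
  have hinv : ∀ g, tr (ρ g⁻¹) = tr (ρ g) := by
    intro g
    rw [map_inv]
    exact S.sd _ (hmem g)
  have hcube : ∀ g, tr (ρ g) ^ 3 = tr (ρ (g ^ 3)) := by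
    intro g
    rw [map_pow]
    have := tr_pow_char 3 (ρ g) 1
    rw [pow_one] at this
    exact this.symm
  have hnotfr : ¬ Fr P 3 := by
    intro h
    have := hC.card_eq 3 h
    omega
  -- the central involution
  have hz : ρ (-1) = 1 ∨ ρ (-1) = -1 := by
    obtain ⟨c, hc⟩ := hC.absIrred.2 (ρ (-1) : Matrix Ix Ix F) (by
      rintro _ ⟨x, hx, rfl⟩
      rw [← hρ] at hx
      obtain ⟨g, rfl⟩ := hx
      rw [← Units.val_mul, ← Units.val_mul, ← map_mul, ← map_mul, neg_one_mul, mul_neg_one])
    have h1 : ρ (-1) * ρ (-1) = 1 := by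
      rw [← map_mul]
      simp
    have h2 : c * c = 1 := by
      have h4 := congrArg Units.val h1
      rw [Units.val_mul, hc, Units.val_one, Matrix.smul_mul, Matrix.one_mul, smul_smul] at h4
      have h5 := congrFun (congrFun h4 (Sum.inl 0)) (Sum.inl 0)
      simpa using h5
    rcases mul_self_eq_one_iff.1 h2 with h | h
    · left
      apply Units.ext
      rw [hc, h, one_smul, Units.val_one]
    · right
      apply Units.ext
      rw [hc, h, Units.val_neg, Units.val_one, neg_smul, one_smul]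
  rcases hz with hz | hz
  · exfalso
    apply hnotfr
    intro x hx
    rw [← hρ] at hx
    obtain ⟨g, rfl⟩ := hx
    have hneg : ∀ g, tr (ρ (-g)) = tr (ρ g) := by
      intro g
      rw [← neg_one_mul, map_mul, hz, one_mul]
    have h2 : ∀ g : SL7, t7 g = 2 → tr (ρ g) ^ 3 = tr (ρ g) := by
      intro g hg
      by_cases h : g = 1
      · rw [h, map_one, tr_one h3]
        ring
      · rw [tr_unip hinv hg h, huni]
        ring
    rcases t7_cases (t7 g) with h | h | h | h | h | h | h
    · exact h2 g h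
    · rw [← hneg]
      exact h2 (-g) (by rw [t7_neg, h]; decide)
    · rw [hcube, cube_of_three (Or.inl h), hneg, hinv]
    · rw [hcube, cube_of_three (Or.inr h), hneg, hinv]
    · have h5 : g ^ 3 = -g := by
        rw [pow_succ, pow_two, sq_of_zero h, neg_one_mul]
      rw [hcube, h5, hneg]
    · have h4 := hcube g
      rw [cube_of_one h, hneg, map_one, tr_one h3] at h4
      rw [h4, pow_eq_zero_iff three_ne_zero |>.1 h4]
    · have h4 := hcube g
      rw [cube_of_neg_one h, map_one, tr_one h3] at h4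
      rw [h4, pow_eq_zero_iff three_ne_zero |>.1 h4]
  · -- the trace of an element of order eight
    have hneg : ∀ g, tr (ρ (-g)) = -tr (ρ g) := by
      intro g
      rw [← neg_one_mul, map_mul, hz, neg_one_mul, tr_neg]
    set η := tr (ρ (u 3 * w 1)) with hη
    have hG : Good ρ η := ⟨hz, hinv, huni, rfl⟩
    have ht : t7 (u 3 * w 1) = 3 := by decide
    have h5 : η ^ 3 = -η := by
      rw [hη, hcube, cube_of_three (Or.inl ht), hneg, hinv]
    have h6 : η ≠ 0 := by
      intro h0
      apply hnotfr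
      intro x hx
      rw [← hρ] at hx
      obtain ⟨g, rfl⟩ := hx
      rw [hG.val h3 g, h0]
      split_ifs <;> ring
    have h7 : η * η = -1 := by
      apply mul_left_cancel₀ h6
      linear_combination h5
    exact ⟨ρ, ⟨η, h7, h3⟩, hρ, hker, hG⟩

end Cfsg.Agent.H156.SNT
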