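import Cfsg.Agent.H464.L2StageOne
import Cfsg.Agent.H156.SN.Hom

/-!
# Traces of the six-dimensional representation of `SL₂(7)` in characteristic three (helper156)

`Good ρ η` : `ρ(-1) = -1`, real traces, `tr ρ(u) = -1`, `tr ρ(s) = η`, `s` of order eight; then all traces are known
(`Good.val`).
-/

set_option autoImplicit false
set_option linter.unusedSectionVars false

namespace Cfsg.Agent.H156.SNT

open Matrix Cfsg Cfsg.Geo Cfsg.Agent.H464.Sl2 Cfsg.Agent.H915.LD
open Cfsg.Agent.H156.SN (Ix fact7 two_eq Env)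

universe u

attribute [local instance] fact7

section general

variable {K : Type*} [Field K]

theorem big_coe (x y : K) (c : Kˣ) : (u x * w c * u y).1 =
    !![x * c, x * c * y - ((c⁻¹ : Kˣ) : K); (c : K), c * y] := by
  change (!![1, x; 0, 1] * !![0, -((c⁻¹ : Kˣ) : K); (c : K), 0]) * !![1, y; 0, 1] = _
  ext i j
  fin_cases i <;> fin_cases j <;> simp [Matrix.mul_apply, Fin.sum_univ_two]
  ring

theorem big_tr (x y : K) (c : Kˣ) : (u x * w c * u y).1 0 0 + (u x * w c * u y).1 1 1 = c * (x + y) := by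
  rw [big_coe]
  simp
  ring

theorem small_coe (x : K) (a : Kˣ) : (u x * t a).1 1 0 = 0 := by
  change (!![1, x; 0, 1] * !![(a : K), 0; 0, ((a⁻¹ : Kˣ) : K)]) 1 0 = 0
  simp [Matrix.mul_apply, Fin.sum_univ_two]

theorem tu_coe (y : K) (ε : Kˣ) : (t ε * u y).1 0 0 + (t ε * u y).1 1 1 = ε + ((ε⁻¹ : Kˣ) : K) := by
  change (!![(ε : K), 0; 0, ((ε⁻¹ : Kˣ) : K)] * !![1, y; 0, 1]) 0 0 +
    (!![(ε : K), 0; 0, ((ε⁻¹ : Kˣ) : K)] * !![1, y; 0, 1]) 1 1 = _
  simp [Matrix.mul_apply, Fin.sum_univ_two]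

end general

/-- `SL₂(7)` -/
abbrev SL7 : Type := SpecialLinearGroup (Fin 2) (ZMod 7)

/-- the trace of an element of `SL₂(7)` -/
def t7 (g : SL7) : ZMod 7 := g.1 0 0 + g.1 1 1

theorem det7 (g : SL7) : g.1 0 0 * g.1 1 1 - g.1 0 1 * g.1 1 0 = 1 := by
  have := g.2
  rwa [Matrix.det_fin_two] at this

theorem t7_cases : ∀ t : ZMod 7, t = 2 ∨ t = -2 ∨ t = 3 ∨ t = -3 ∨ t = 0 ∨ t = 1 ∨ t = -1 := by decide

/-- Cayley–Hamilton -/
theorem ch (g : SL7) : g.1 * g.1 = t7 g • g.1 - 1 := by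
  have h := det7 g
  ext i j
  fin_cases i <;> fin_cases j <;> simp [Matrix.mul_apply, Fin.sum_univ_two, t7] <;>
    first | ring1 | linear_combination -h

theorem sq_of_zero {g : SL7} (h : t7 g = 0) : g * g = -1 := by
  apply Subtype.ext
  change g.1 * g.1 = -1
  rw [ch, h, zero_smul, zero_sub]

theorem cube_val (g : SL7) : g.1 * g.1 * g.1 = (t7 g ^ 2 - 1) • g.1 - t7 g • 1 := by
  rw [ch, Matrix.sub_mul, Matrix.smul_mul, ch, Matrix.one_mul, smul_sub, smul_smul, sub_smul, one_smul, sq]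
  abel

theorem cube_of_one {g : SL7} (h : t7 g = 1) : g ^ 3 = -1 := by
  apply Subtype.ext
  rw [pow_succ, pow_two]
  change g.1 * g.1 * g.1 = -1
  rw [cube_val, h]
  simp

theorem cube_of_neg_one {g : SL7} (h : t7 g = -1) : g ^ 3 = 1 := by
  apply Subtype.ext
  rw [pow_succ, pow_two]
  change g.1 * g.1 * g.1 = 1
  rw [cube_val, h]
  simp

/-- elements of trace `±3`: `g³ = -g⁻¹` -/
theorem cube_of_three {g : SL7} (h : t7 g = 3 ∨ t7 g = -3) : g ^ 3 = -g⁻¹ := by
  have h2 : t7 g ^ 2 = 2 := by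
    rcases h with h | h <;> rw [h] <;> decide
  have h4 : g ^ 3 * g = -1 := by
    apply Subtype.ext
    rw [pow_succ, pow_two]
    change g.1 * g.1 * g.1 * g.1 = -1
    rw [cube_val, Matrix.sub_mul, Matrix.smul_mul, ch, Matrix.smul_mul, Matrix.one_mul, h2]
    have : (2 : ZMod 7) - 1 = 1 := by decide
    rw [this, one_smul]
    abel
  rw [← mul_left_inj g, h4, neg_mul, inv_mul_cancel]

theorem t7_neg (g : SL7) : t7 (-g) = -t7 g := by
  unfold t7
  change -g.1 0 0 + -g.1 1 1 = _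
  ring

theorem t7_conj (h g : SL7) : t7 (h * g * h⁻¹) = t7 g := by
  have h1 : ∀ g : SL7, t7 g = g.1.trace := fun g => (Matrix.trace_fin_two g.1).symm
  rw [h1, h1]
  change (h.1 * g.1 * (h⁻¹).1).trace = _
  rw [Matrix.trace_mul_comm, ← Matrix.mul_assoc]
  have h2 : (h⁻¹).1 * h.1 = 1 := congrArg Subtype.val (inv_mul_cancel h)
  rw [h2, Matrix.one_mul]

/-- all elements of trace `3` are conjugate -/
theorem exists_conj_three {g : SL7} (h : t7 g = 3) : ∃ y : SL7, y * (u 3 * w 1) * y⁻¹ = g := by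
  have hc : g.1 1 0 ≠ 0 := by
    intro hc
    have h1 := det7 g
    rw [hc, mul_zero, sub_zero] at h1
    have : ∀ a d : ZMod 7, a * d = 1 → a + d ≠ 3 := by decide
    exact this _ _ h1 h
  rcases bruhat g with ⟨x, a, rfl⟩ | ⟨x, c, y, rfl⟩
  · exact absurd (small_coe x a) hc
  · obtain ⟨k, x', y', e1, e2⟩ := exists_lower (by decide : (2 : ZMod 7) ≠ 0) 3 (by decide) c
    have e4 : (c : ZMod 7) * (x + y) = 3 := by
      rw [← h]
      exact (big_tr x y c).symm
    have e5 : x' + y' = x + y := mul_left_cancel₀ c.ne_zero (e2.trans e4.symm)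
    refine ⟨u (x - x') * k, ?_⟩
    have e6 : u (x - x') * k * (u 3 * w 1) * (u (x - x') * k)⁻¹ = u (x - x') * (k * (u 3 * w 1) * k⁻¹) * (u (x - x'))⁻¹ := by
      group
    have e7 : (u (x - x'))⁻¹ = u (x' - x) := by
      rw [inv_eq_iff_mul_eq_one, ← u_add]
      rw [show x - x' + (x' - x) = 0 by ring, u_zero]
    rw [e6, e1, e7]
    have e8 : u (x - x') * (u x' * w c * u y') * u (x' - x) = (u (x - x') * u x') * w c * (u y' * u (x' - x)) := by
      simp only [mul_assoc]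
    rw [e8, ← u_add, ← u_add]
    congr 2
    · congr 1
      ring
    · linear_combination e5

variable {F : Type u} [Field F] {ρ : SL7 →* GL Ix F} {η : F}

/-- the known data of the representation -/
structure Good (ρ : SL7 →* GL Ix F) (η : F) : Prop where
  neg : ρ (-1) = -1
  inv : ∀ g, tr (ρ g⁻¹) = tr (ρ g)
  uni : tr (ρ (u 1)) = -1
  s : tr (ρ (u 3 * w 1)) = η

theorem tr_neg (g : GL Ix F) : tr (-g) = -tr g := by
  unfold tr
  rw [Units.val_neg, Matrix.trace_neg]

theorem tr_one (h3 : (3 : F) = 0) : tr (1 : GL Ix F) = 0 := by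
  unfold tr
  rw [Units.val_one, Matrix.trace_one]
  have h : Fintype.card Ix = 6 := by simp [Ix]
  rw [h]
  push_cast
  linear_combination 2 * h3

theorem tr_cj (y g : SL7) : tr (ρ (y * g * y⁻¹)) = tr (ρ g) := by
  rw [map_mul, map_mul, map_inv, H915.LD.tr_conj]

/-- squares and their negatives -/
theorem sq_cases7 : ∀ y : ZMod 7, y ≠ 0 → ∃ a : ZMod 7, a ≠ 0 ∧ (y = a ^ 2 ∨ y = -a ^ 2) := by decide

theorem tr_u (hinv : ∀ g, tr (ρ g⁻¹) = tr (ρ g)) {y : ZMod 7} (hy : y ≠ 0) : tr (ρ (u y)) = tr (ρ (u 1)) := by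
  obtain ⟨a, ha, h⟩ := sq_cases7 y hy
  have h1 : ∀ z : ZMod 7, tr (ρ (u (a ^ 2 * z))) = tr (ρ (u z)) := by
    intro z
    have h2 := t_mul_u (Units.mk0 a ha) z
    rw [Units.val_mk0] at h2
    have h3 : u (a ^ 2 * z) = t (Units.mk0 a ha) * u z * (t (Units.mk0 a ha))⁻¹ := by
      rw [h2, mul_inv_cancel_right]
    rw [h3, tr_cj]
  rcases h with h | h
  · rw [h, ← h1 1, mul_one]
  · have h2 : (u (1 : ZMod 7))⁻¹ = u (-1) := by
      rw [inv_eq_iff_mul_eq_one, ← u_add, add_neg_cancel, u_zero]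
    have h3 : y = a ^ 2 * (-1) := by rw [h]; ring
    rw [h3, h1, ← h2, hinv]

theorem exists_u {g : SL7} (h : t7 g = 2) : ∃ (k : SL7) (y : ZMod 7), g = k * u y * k⁻¹ := by
  obtain ⟨k, ε, y, hε, rfl⟩ := exists_conj_unip g (by
    have : g.1 0 0 + g.1 1 1 = 2 := h
    rw [this]
    decide)
  rw [t7_conj] at h
  have h3 : ε⁻¹ = ε := by
    rw [inv_eq_iff_mul_eq_one, ← sq, hε]
  have h4 : (ε : ZMod 7) = 1 := by
    have h5 : (ε : ZMod 7) + ε = 2 := by
      rw [← h]
      have h6 := tu_coe y ε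
      rw [h3] at h6
      exact h6.symm
    have : ∀ e : ZMod 7, e + e = 2 → e = 1 := by decide
    exact this _ h5
  have h5 : ε = 1 := Units.ext h4
  subst h5
  exact ⟨k, y, by rw [t_one, one_mul]⟩

theorem u_pow (y : ZMod 7) (n : ℕ) : u y ^ n = u (n * y) := by
  induction n with
  | zero => rw [pow_zero, Nat.cast_zero, zero_mul, u_zero]
  | succ n ih =>
    rw [pow_succ, ih, ← u_add]
    congr 1
    push_cast
    ring

theorem pow_seven {g : SL7} (h : t7 g = 2) : g ^ 7 = 1 := by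
  obtain ⟨k, y, rfl⟩ := exists_u h
  rw [conj_pow, u_pow]
  have h7 : ((7 : ℕ) : ZMod 7) = 0 := by decide
  rw [h7, zero_mul, u_zero, mul_one, mul_inv_cancel]

/-- exponent of `SL₂(7)` -/
theorem pow_168 (g : SL7) : g ^ 168 = 1 := by
  rcases t7_cases (t7 g) with h | h | h | h | h | h | h
  · rw [show 168 = 7 * 24 by norm_num, pow_mul, pow_seven h, one_pow]
  · have h1 : (-g) ^ 7 = 1 := pow_seven (by rw [t7_neg, h]; decide)
    have h2 : g ^ 14 = 1 := by
      rw [show 14 = 2 * 7 by norm_num, pow_mul, ← neg_sq, ← pow_mul, mul_comm, pow_mul, h1, one_pow]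
    rw [show 168 = 14 * 12 by norm_num, pow_mul, h2, one_pow]
  · have h1 := cube_of_three (Or.inl h)
    have h4 : g ^ 4 = -1 := by rw [pow_succ, h1, neg_mul, inv_mul_cancel]
    rw [show 168 = 4 * 42 by norm_num, pow_mul, h4, Even.neg_one_pow (by decide)]
  · have h1 := cube_of_three (Or.inr h)
    have h4 : g ^ 4 = -1 := by rw [pow_succ, h1, neg_mul, inv_mul_cancel]
    rw [show 168 = 4 * 42 by norm_num, pow_mul, h4, Even.neg_one_pow (by decide)]
  · have h1 := sq_of_zero h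
    rw [show 168 = 2 * 84 by norm_num, pow_mul, pow_two, h1, Even.neg_one_pow (by decide)]
  · have h1 := cube_of_one h
    rw [show 168 = 3 * 56 by norm_num, pow_mul, h1, Even.neg_one_pow (by decide)]
  · have h1 := cube_of_neg_one h
    rw [show 168 = 3 * 56 by norm_num, pow_mul, h1, one_pow]

theorem tr_unip (hinv : ∀ g, tr (ρ g⁻¹) = tr (ρ g)) {g : SL7} (h : t7 g = 2) (h1 : g ≠ 1) :
    tr (ρ g) = tr (ρ (u 1)) := by
  obtain ⟨k, y, rfl⟩ := exists_u h
  rw [tr_cj]
  apply tr_u hinv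
  rintro rfl
  apply h1
  rw [u_zero, mul_one, mul_inv_cancel]

theorem Good.val [Finite F] (h3 : (3 : F) = 0) (G : Good ρ η) (g : SL7) : tr (ρ g) =
    if t7 g = 2 then (if g = 1 then 0 else -1) else if t7 g = -2 then (if -g = 1 then 0 else 1) else
      if t7 g = 3 then η else if t7 g = -3 then -η else 0 := by
  have : Fact (Nat.Prime 3) := ⟨by norm_num⟩
  have hch : CharP F 3 := by
    apply CharP.congr (ringChar F)
    have h : ringChar F ∣ 3 := (ringChar.spec F 3).1 (by exact_mod_cast h3)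
    rcases (Nat.dvd_prime (by norm_num)).1 h with h | h
    · exact absurd h (CharP.ringChar_ne_one)
    · exact h
  have hneg : ∀ g, tr (ρ (-g)) = -tr (ρ g) := by
    intro g
    rw [← neg_one_mul, map_mul, G.neg, neg_one_mul, tr_neg]
  have hcube : ∀ g, tr (ρ g) ^ 3 = tr (ρ (g ^ 3)) := by
    intro g
    rw [map_pow]
    have := tr_pow_char 3 (ρ g) 1
    rw [pow_one] at this
    exact this.symm
  have h2 : ∀ g : SL7, t7 g = 2 → tr (ρ g) = if g = 1 then 0 else -1 := by
    intro g hg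
    split_ifs with h
    · rw [h, map_one, tr_one h3]
    · rw [tr_unip G.inv hg h, G.uni]
  have hs : ∀ g : SL7, t7 g = 3 → tr (ρ g) = η := by
    intro g hg
    obtain ⟨y, rfl⟩ := exists_conj_three hg
    rw [tr_cj, G.s]
  have d1 : (-2 : ZMod 7) ≠ 2 := by decide
  have d2 : (3 : ZMod 7) ≠ 2 := by decide
  have d3 : (3 : ZMod 7) ≠ -2 := by decide
  have d4 : (-3 : ZMod 7) ≠ 2 := by decide
  have d5 : (-3 : ZMod 7) ≠ -2 := by decide
  have d6 : (-3 : ZMod 7) ≠ 3 := by decide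
  rcases t7_cases (t7 g) with h | h | h | h | h | h | h
  · rw [if_pos h, h2 g h]
  · rw [if_neg (by rw [h]; exact d1), if_pos h]
    have h4 : t7 (-g) = 2 := by rw [t7_neg, h]; decide
    have h5 := h2 (-g) h4
    rw [hneg] at h5
    rw [← neg_neg (tr (ρ g)), h5]
    split_ifs <;> ring
  · rw [if_neg (by rw [h]; exact d2), if_neg (by rw [h]; exact d3), if_pos h, hs g h]
  · rw [if_neg (by rw [h]; exact d4), if_neg (by rw [h]; exact d5), if_neg (by rw [h]; exact d6), if_pos h]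
    have h4 : t7 (-g) = 3 := by rw [t7_neg, h]; decide
    have h5 := hs (-g) h4
    rw [hneg] at h5
    rw [← h5, neg_neg]
  · rw [h, if_neg (by decide), if_neg (by decide), if_neg (by decide), if_neg (by decide)]
    have h4 : g⁻¹ = -g := by
      rw [inv_eq_iff_mul_eq_one, mul_neg, sq_of_zero h, neg_neg]
    have h5 := G.inv g
    rw [h4, hneg] at h5
    have h6 : (2 : F) * tr (ρ g) = 0 := by linear_combination -h5
    rw [two_eq h3] at h6
    linear_combination -h6
  · rw [h, if_neg (by decide), if_neg (by decide), if_neg (by decide), if_neg (by decide)]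
    have h4 := hcube g
    rw [cube_of_one h, hneg 1, map_one, tr_one h3, neg_zero] at h4
    exact pow_eq_zero_iff three_ne_zero |>.1 h4
  · rw [h, if_neg (by decide), if_neg (by decide), if_neg (by decide), if_neg (by decide)]
    have h4 := hcube g
    rw [cube_of_neg_one h, map_one, tr_one h3] at h4
    exact pow_eq_zero_iff three_ne_zero |>.1 h4

end Cfsg.Agent.H156.SNT
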